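import Cfsg.Agent.Lib.SylowOrbits.Basic
import Cfsg.Agent.S0713

/-!
Facts on groups inducing an alternating group of degree `k`, where `p + 2 ≤ k < 2p`:
prime cycles, subgroups containing a prime cycle, and orbits on sets of points.
-/

set_option autoImplicit false
set_option linter.unusedSectionVars false
set_option linter.style.haveILetI false

namespace Cfsg.Agent.SylowOrbits

open MulAction Subgroup Equiv
open scoped Pointwise

variable {p : ℕ} [Fact p.Prime] {α : Type*} [Fintype α] [DecidableEq α]

theorem odd_of_ne_two (hp2 : p ≠ 2) : Odd p := (Fact.out : p.Prime).odd_of_ne_two hp2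

theorem exists_cycle (hp2 : p ≠ 2) (hk : p + 2 ≤ Nat.card α) (av : Finset α) (hav : av.card ≤ 2)
    {a b : α} (hab : a ≠ b) (ha : a ∉ av) (hb : b ∉ av) :
    ∃ σ ∈ alternatingGroup α, σ ^ p = 1 ∧ (∀ x ∈ av, σ x = x) ∧ σ a = b ∧
      σ.IsCycle ∧ σ.support.card = p := by
  have hp : p.Prime := Fact.out
  have h3 : 3 ≤ p := by have := hp.two_le; omega
  set ex := av ∪ {a, b}
  have hex : ex.card ≤ 4 := (Finset.card_union_le _ _).trans (by
    have := Finset.card_insert_le a ({b} : Finset α); simp at this ⊢; omega)
  have hk' : p + 2 ≤ Fintype.card α := by rwa [← Nat.card_eq_fintype_card]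
  obtain ⟨t, ht, htc⟩ := Finset.exists_subset_card_eq (s := exᶜ) (n := p - 2)
    (by rw [Finset.card_compl]; omega)
  have hnot : ∀ x ∈ t, x ∉ ex := fun x hx => Finset.mem_compl.1 (ht hx)
  set l : List α := a :: b :: t.toList
  have hnd : l.Nodup := by
    refine List.nodup_cons.2 ⟨?_, List.nodup_cons.2 ⟨?_, t.nodup_toList⟩⟩
    · simp only [List.mem_cons, Finset.mem_toList, not_or]
      exact ⟨hab, fun h => hnot a h (by simp [ex])⟩
    · simp only [Finset.mem_toList]
      exact fun h => hnot b h (by simp [ex])
  have hlen : l.length = p := by simp [l, htc]; omega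
  have hne : ∀ x, l ≠ [x] := fun x h => by
    have := congrArg List.length h; simp at this; omega
  have hsupp : l.formPerm.support.card = p := by
    rw [List.support_formPerm_of_nodup l hnd hne, List.toFinset_card_of_nodup hnd, hlen]
  have hc : l.formPerm.IsCycle := List.isCycle_formPerm hnd (by omega)
  refine ⟨l.formPerm, ?_, ?_, fun x hx => ?_, List.formPerm_apply_head _ _ _ hnd, hc, hsupp⟩
  · rw [Perm.mem_alternatingGroup, hc.sign, hsupp, (odd_of_ne_two hp2).neg_one_pow, neg_neg]
  · rw [← hsupp, ← hc.orderOf, pow_orderOf_eq_one]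
  · refine List.formPerm_apply_of_notMem ?_
    simp only [l, List.mem_cons, Finset.mem_toList, not_or]
    exact ⟨fun h => ha (h ▸ hx), fun h => hb (h ▸ hx), fun h => hnot x h (by simp [ex, hx])⟩

variable {K : Type*} [Group K] [MulAction K α]

/-- A set stable under an element inducing a cycle contains the support or avoids it. -/
theorem disjoint_support_of_stable {g : K} (hc : (toPermHom K α g).IsCycle) {I : Set α}
    (hI : g • I = I) (hlt : I.ncard < (toPermHom K α g).support.card) :
    ∀ x ∈ I, g • x = x := by
  intro x hx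
  by_contra hne
  have hsub : ((toPermHom K α g).support : Set α) ⊆ I := by
    intro y hy
    obtain ⟨i, hi⟩ := hc.exists_pow_eq (x := x) (y := y) hne (Perm.mem_support.1 hy)
    rw [← map_pow] at hi
    have hs : g ^ i • I = I := mem_stabilizer_iff.1 (pow_mem (mem_stabilizer_iff.2 hI) i)
    rw [← hs, ← hi]
    exact Set.smul_mem_smul_set hx
  have := Set.ncard_le_ncard hsub (Set.toFinite I)
  rw [Set.ncard_coe_finset] at this
  omega

variable (hA : (toPermHom K α).range = alternatingGroup α)
include hA

/-- A proper subgroup above the kernel containing a `p`-cycle fixes a small nonempty set. -/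
theorem exists_stable_set (hk : p = 3 ∨ p + 3 ≤ Nat.card α) (hk2 : Nat.card α < 2 * p) (h5 : 5 ≤ Nat.card α)
    {M : Subgroup K} (hker : (toPermHom K α).ker ≤ M) (hM : M ≠ ⊤) {g : K} (hg : g ∈ M)
    (hc : (toPermHom K α g).IsCycle) (hs : (toPermHom K α g).support.card = p) :
    ∃ I : Set α, I.Nonempty ∧ I.ncard < p ∧ M ≤ stabilizer K I := by
  classical
  have hp : p.Prime := Fact.out
  rw [Nat.card_eq_fintype_card] at hk hk2 h5
  obtain ⟨a, ha⟩ : (toPermHom K α g).support.Nonempty := Finset.card_pos.1 (by rw [hs]; exact hp.pos)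
  rw [Perm.mem_support] at ha
  have hsub : ((toPermHom K α g).support : Set α) ⊆ orbit M a := by
    intro y hy
    obtain ⟨i, hi⟩ := hc.exists_pow_eq (x := a) (y := y) ha (Perm.mem_support.1 hy)
    rw [← map_pow] at hi
    exact ⟨⟨g ^ i, pow_mem hg i⟩, hi⟩
  by_cases htr : orbit M a = Set.univ
  · -- transitive, hence primitive, hence everything
    exfalso
    haveI : IsPretransitive M α := (isPretransitive_iff_base a).2 fun y => by
      obtain ⟨m, hm⟩ : y ∈ orbit M a := htr ▸ Set.mem_univ y
      exact ⟨m, hm⟩
    haveI hprim : IsPreprimitive M α := by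
      refine IsPreprimitive.of_isTrivialBlock_base a fun {B} haB hB => ?_
      rcases B.subsingleton_or_nontrivial with hBs | hBn
      · exact Or.inl hBs
      right
      have hmul := IsBlock.ncard_block_mul_ncard_orbit_eq hB ⟨a, haB⟩
      rw [Nat.card_eq_fintype_card] at hmul
      have h2 : 1 < B.ncard := (Set.one_lt_ncard (Set.toFinite B)).2 hBn
      have horb : (orbit M B).ncard < p := by nlinarith
      obtain ⟨i, hi, j, hj, hne, hij⟩ := Set.exists_ne_map_eq_of_ncard_lt_of_maps_to
        (s := Set.Iio p) (f := fun i : ℕ => (⟨g ^ i, pow_mem hg i⟩ : M) • B)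
        (t := orbit M B) (by simpa [Set.ncard_eq_toFinset_card'] using horb)
        (fun i _ => mem_orbit B _) (Set.toFinite _)
      have hgB : g • B = B := by
        wlog hlt : i < j generalizing i j
        · exact this j hj i hi hne.symm hij.symm (by omega)
        have hd : g ^ (j - i) • B = B := by
          have hij' : g ^ i • B = g ^ j • B := hij
          rw [← Nat.add_sub_cancel' hlt.le, pow_add, mul_smul, smul_left_cancel_iff] at hij'
          exact hij'.symm
        simp only [Set.mem_Iio] at hj
        obtain ⟨u, -, hu⟩ := Nat.exists_mul_mod_eq_one_of_coprime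
          ((hp.coprime_iff_not_dvd).2 (Nat.not_dvd_of_pos_of_lt (show 0 < j - i by omega)
            (show j - i < p by omega))).symm hp.one_lt
        have hd' : g ^ ((j - i) * u) • B = B := by
          rw [pow_mul]
          exact mem_stabilizer_iff.1 (pow_mem (mem_stabilizer_iff.2 hd) u)
        have hperm : toPermHom K α (g ^ ((j - i) * u)) = toPermHom K α g := by
          rw [map_pow, ← Nat.div_add_mod ((j - i) * u) p, hu, pow_add, pow_mul,
            ← hs, ← hc.orderOf, pow_orderOf_eq_one, one_pow, one_mul, pow_one]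
        refine Eq.trans ?_ hd'
        exact Set.image_congr fun x _ => (Equiv.congr_fun hperm x).symm
      have hpB : ¬ B.ncard < (toPermHom K α g).support.card := fun h =>
        ha (disjoint_support_of_stable hc hgB h a haB)
      rw [hs] at hpB
      have hcardB : B.ncard = Fintype.card α := by
        have h1 : (orbit M B).ncard < 2 := by nlinarith
        have h0 : 0 < (orbit M B).ncard := (Set.ncard_pos (Set.toFinite _)).2 ⟨B, mem_orbit_self B⟩
        rw [← hmul, show (orbit M B).ncard = 1 by omega, mul_one]
      exact Set.eq_of_subset_of_ncard_le (Set.subset_univ B)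
        (by rw [Set.ncard_univ, Nat.card_eq_fintype_card, hcardB]) (Set.toFinite _)
    set Γ := M.map (toPermHom K α) with hΓ
    have hΓprim : IsPreprimitive Γ α :=
      IsPreprimitive.of_surjective (φ := (toPermHom K α).subgroupMap M)
        (f := { toFun := id, map_smul' := fun _ _ => rfl }) Function.surjective_id
    have hgΓ : toPermHom K α g ∈ Γ := ⟨g, hg, rfl⟩
    have hAle : alternatingGroup α ≤ Γ := by
      rcases eq_or_ne p 3 with rfl | h3
      · exact Perm.alternatingGroup_le_of_isPreprimitive_of_isThreeCycle_mem hΓprim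
          (card_support_eq_three_iff.1 hs) hgΓ
      · exact Cfsg.Agent.S0713.result Γ hΓprim hp h5 (by omega) hc hs hgΓ
    refine hM (eq_top_iff.2 fun x _ => ?_)
    have hx : toPermHom K α x ∈ Γ := hAle (hA ▸ ⟨x, rfl⟩)
    rw [← mem_comap, comap_map_eq, sup_eq_left.2 hker] at hx
    exact hx
  · refine ⟨(orbit M a)ᶜ, Set.nonempty_compl.2 htr, ?_, fun m hm => ?_⟩
    · have h1 := Set.ncard_le_ncard (Set.compl_subset_compl.2 hsub) (Set.toFinite _)
      rw [Set.ncard_compl ((toPermHom K α g).support : Set α), Set.ncard_coe_finset, hs,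
        Nat.card_eq_fintype_card] at h1
      omega
    · have h := smul_orbit (⟨m, hm⟩ : M) a
      rw [mem_stabilizer_iff, Set.smul_set_compl]
      exact congrArg compl h

/-- `K` is transitive on the `i`-sets. -/
theorem orbit_set {I : Set α} (hI : I.ncard + 2 ≤ Nat.card α) :
    orbit K I = {J : Set α | J.ncard = I.ncard} := by
  classical
  refine Set.Subset.antisymm (by rintro _ ⟨k, rfl⟩; exact Set.ncard_smul_set k I) fun J hJ => ?_
  obtain ⟨a, ha, b, hb, hab⟩ : Set.Nontrivial Jᶜ := by
    rw [← Set.one_lt_ncard_iff_nontrivial, Set.ncard_compl]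
    rw [Set.mem_ofPred_eq] at hJ
    omega
  have hcard : Fintype.card {x // x ∈ I} = Fintype.card {x // x ∈ J} := by
    rw [← Nat.card_eq_fintype_card, ← Nat.card_eq_fintype_card]
    exact hJ.symm
  set σ : Perm α := (Fintype.equivOfCardEq hcard).extendSubtype
  have hσ : σ '' I = J := by
    refine Set.eq_of_subset_of_ncard_le ?_ ?_ (Set.toFinite J)
    · rintro _ ⟨x, hx, rfl⟩
      exact Equiv.extendSubtype_mem _ x hx
    · rw [Set.ncard_image_of_injective _ σ.injective]
      exact le_of_eq hJ
  obtain ⟨τ, hτ, hτI⟩ : ∃ τ ∈ alternatingGroup α, τ '' I = J := by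
    rcases Int.units_eq_one_or (Perm.sign σ) with h | h
    · exact ⟨σ, Perm.mem_alternatingGroup.2 h, hσ⟩
    · refine ⟨swap a b * σ, by simp [Perm.mem_alternatingGroup, h, hab], ?_⟩
      rw [Perm.coe_mul, Set.image_comp, hσ]
      refine (Set.image_congr fun x hx => swap_apply_of_ne_of_ne ?_ ?_).trans (Set.image_id J)
      · exact fun e => ha (e ▸ hx)
      · exact fun e => hb (e ▸ hx)
  rw [← hA] at hτ
  obtain ⟨k, rfl⟩ := hτ
  exact ⟨k, hτI⟩

omit hA in
theorem ncard_sets (i : ℕ) : {J : Set α | J.ncard = i}.ncard = (Nat.card α).choose i := by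
  have : {J : Set α | J.ncard = i} =
      (fun s : Finset α => (s : Set α)) '' ↑(Finset.univ.powersetCard i : Finset (Finset α)) := by
    ext J
    simp only [Set.mem_ofPred_eq, Set.mem_image, Finset.mem_coe, Finset.mem_powersetCard_univ]
    constructor
    · intro h
      exact ⟨J.toFinite.toFinset, by rw [← h, Set.ncard_eq_toFinset_card J], Set.Finite.coe_toFinset _⟩
    · rintro ⟨s, hs, rfl⟩
      rw [Set.ncard_coe_finset, hs]
  rw [this, Set.ncard_image_of_injective _ Finset.coe_injective, Set.ncard_coe_finset,
    Finset.card_powersetCard, Finset.card_univ, Nat.card_eq_fintype_card]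

omit hA in
/-- The stable `i`-sets of an element inducing a `p`-cycle, `i < p`. -/
theorem ncard_fixed_sets_le {g : K} (hc : (toPermHom K α g).IsCycle)
    (hs : (toPermHom K α g).support.card = p) {i : ℕ} (hi : i < p) :
    {J : Set α | J.ncard = i ∧ g • J = J}.ncard ≤ (Nat.card α - p).choose i := by
  classical
  set F := (toPermHom K α g).supportᶜ with hF
  have hsub : {J : Set α | J.ncard = i ∧ g • J = J} ⊆
      (fun s : Finset α => (s : Set α)) '' ↑(F.powersetCard i) := by
    rintro J ⟨hJ, hgJ⟩
    refine ⟨J.toFinite.toFinset, ?_, Set.Finite.coe_toFinset _⟩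
    rw [Finset.mem_coe, Finset.mem_powersetCard]
    refine ⟨fun x hx => ?_, by rw [← hJ, Set.ncard_eq_toFinset_card J]⟩
    rw [hF, Finset.mem_compl, Perm.mem_support, not_not]
    exact disjoint_support_of_stable hc hgJ (by rw [hs, hJ]; exact hi) x
      ((Set.Finite.mem_toFinset _).1 hx)
  refine (Set.ncard_le_ncard hsub (Set.toFinite _)).trans ?_
  rw [Set.ncard_image_of_injective _ Finset.coe_injective, Set.ncard_coe_finset,
    Finset.card_powersetCard, hF, Finset.card_compl, hs, Nat.card_eq_fintype_card]

omit hA in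
theorem lt_choose {k i : ℕ} (h5 : 5 ≤ k) (hi : 2 ≤ i) (hik : i + 2 ≤ k) : k < k.choose i := by
  induction k, h5 using Nat.le_induction generalizing i with
  | base =>
    have : i ≤ 3 := by omega
    interval_cases i <;> decide
  | succ n hn ih =>
    obtain ⟨j, rfl⟩ : ∃ j, i = j + 1 := ⟨i - 1, by omega⟩
    rw [Nat.choose_succ_succ]
    rcases Nat.lt_or_ge j 2 with hj | hj
    · obtain rfl : j = 1 := by omega
      have := ih (i := 2) le_rfl (by omega)
      rw [Nat.choose_one_right]
      simp only [Nat.succ_eq_add_one, Nat.reduceAdd]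
      omega
    · have := ih (i := j) hj (by omega)
      have h1 : 0 < n.choose (j + 1) := Nat.choose_pos (by omega)
      simp only [Nat.succ_eq_add_one]
      omega

omit hA in
theorem four_mul_choose_le {a b : ℕ} (h : 2 * a ≤ b) {i : ℕ} (hi : 2 ≤ i) :
    4 * a.choose i ≤ b.choose i := by
  have key : ∀ j, 2 ≤ j → 4 * a.descFactorial j ≤ b.descFactorial j := by
    intro j hj
    induction j, hj using Nat.le_induction with
    | base =>
      simp only [Nat.descFactorial, mul_one, Nat.sub_zero]
      rcases Nat.eq_zero_or_pos a with rfl | ha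
      · simp
      have h1 : 2 * (a - 1) ≤ b - 1 := by omega
      nlinarith [Nat.mul_le_mul h1 h]
    | succ n hn ih =>
      rw [Nat.descFactorial_succ, Nat.descFactorial_succ]
      calc 4 * ((a - n) * a.descFactorial n) = (a - n) * (4 * a.descFactorial n) := by ring
        _ ≤ (b - n) * b.descFactorial n := Nat.mul_le_mul (by omega) ih
  have := key i hi
  rw [Nat.descFactorial_eq_factorial_mul_choose, Nat.descFactorial_eq_factorial_mul_choose] at this
  exact Nat.le_of_mul_le_mul_left (by linarith) (Nat.factorial_pos i)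

/-- A subgroup above the kernel containing a `p`-cycle, of index at most the degree, is a point
stabiliser. -/
theorem exists_eq_stabilizer [Finite K] (hk : p = 3 ∨ p + 3 ≤ Nat.card α)
    (hk2 : Nat.card α < 2 * p) (h5 : 5 ≤ Nat.card α) {M : Subgroup K}
    (hker : (toPermHom K α).ker ≤ M) (hM : M ≠ ⊤) {g : K} (hg : g ∈ M)
    (hc : (toPermHom K α g).IsCycle) (hs : (toPermHom K α g).support.card = p)
    (hidx : M.index ≤ Nat.card α) : ∃ x : α, M = stabilizer K x := by
  classical
  obtain ⟨I, hne, hlt, hle⟩ := exists_stable_set hA hk hk2 h5 hker hM hg hc hs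
  have h1 := (Set.ncard_pos (Set.toFinite I)).2 hne
  have hik : I.ncard + 2 ≤ Nat.card α := by have := (Fact.out : p.Prime).two_le; omega
  have hst : (stabilizer K I).index = (Nat.card α).choose I.ncard := by
    rw [index_stabilizer, orbit_set hA hik, ncard_sets]
  have hdvd := Subgroup.index_dvd_of_le hle
  have hpos : 0 < M.index := Nat.pos_of_ne_zero Subgroup.FiniteIndex.index_ne_zero
  have hleI := Nat.le_of_dvd hpos hdvd
  have hI1 : I.ncard = 1 := by
    by_contra h
    have := lt_choose h5 (i := I.ncard) (by omega) hik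
    omega
  obtain ⟨x, rfl⟩ := Set.ncard_eq_one.1 hI1
  rw [stabilizer_singleton] at hle
  refine ⟨x, le_antisymm hle (le_of_eq ?_)⟩
  have hxi : (stabilizer K x).index = Nat.card α := by
    rw [← stabilizer_singleton x, hst, hI1, Nat.choose_one_right]
  refine (Subgroup.eq_of_le_of_card_ge hle ?_).symm
  have h2 := (stabilizer K x).index_mul_card
  have h3 := M.index_mul_card
  nlinarith [Nat.card_pos (α := M)]

end Cfsg.Agent.SylowOrbits
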