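import Mathlib

/-!
Fixed points of Sylow subgroups on transitive sets: the defect
`(p - 1) * |A| - (2p - 1) * |A ∩ Fix P|` and basic facts about subgroups generated by `p`-elements.
-/

set_option autoImplicit false
set_option linter.unusedSectionVars false
set_option linter.style.haveILetI false

namespace Cfsg.Agent.SylowOrbits

open MulAction Subgroup
open scoped Pointwise

variable {G : Type*} [Group G] (p : ℕ)

/-- `g` has `p`-power order. -/
def IsPEl (g : G) : Prop := ∃ k : ℕ, g ^ p ^ k = 1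

/-- The subgroup generated by the `p`-elements of `H`. -/
def pe (H : Subgroup G) : Subgroup G := closure {g | g ∈ H ∧ IsPEl p g}

variable {p}

theorem IsPEl.map {G' : Type*} [Group G'] (f : G →* G') {g : G} (h : IsPEl p g) :
    IsPEl p (f g) := h.imp fun k hk => by rw [← map_pow, hk, map_one]

theorem IsPEl.coe {H : Subgroup G} {g : H} (h : IsPEl p g) : IsPEl p (g : G) := h.map H.subtype

theorem IsPEl.mk {H : Subgroup G} {g : G} (hg : g ∈ H) (h : IsPEl p g) :
    IsPEl p (⟨g, hg⟩ : H) := h.imp fun _ hk => Subtype.ext hk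

theorem IsPEl.conj {g : G} (h : IsPEl p g) (x : G) : IsPEl p (x * g * x⁻¹) :=
  h.map (MulAut.conj x).toMonoidHom

theorem IsPEl.of_mem_pgroup {P : Subgroup G} (hP : IsPGroup p P) {g : G} (hg : g ∈ P) :
    IsPEl p g := (hP ⟨g, hg⟩).imp fun _ hk => congrArg Subtype.val hk

theorem IsPEl.isPGroup [Fact p.Prime] {g : G} (h : IsPEl p g) : IsPGroup p (zpowers g) := by
  intro x
  obtain ⟨k, hk⟩ := h
  obtain ⟨i, hi⟩ := mem_zpowers_iff.1 x.2
  refine ⟨k, Subtype.ext ?_⟩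
  rw [SubmonoidClass.coe_pow, ← hi, ← zpow_natCast, ← zpow_mul, mul_comm, zpow_mul, zpow_natCast,
    hk, one_zpow]
  rfl

theorem mem_pe {H : Subgroup G} {g : G} (hg : g ∈ H) (h : IsPEl p g) : g ∈ pe p H :=
  subset_closure ⟨hg, h⟩

theorem pe_le (H : Subgroup G) : pe p H ≤ H := (closure_le _).2 fun _ h => h.1

theorem pe_le_iff {H L : Subgroup G} : pe p H ≤ L ↔ ∀ g ∈ H, IsPEl p g → g ∈ L := by
  simp [pe, closure_le, Set.subset_def]

theorem pe_mono {H H' : Subgroup G} (h : H ≤ H') : pe p H ≤ pe p H' :=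
  pe_le_iff.2 fun _ hg he => mem_pe (h hg) he

theorem le_pe {P H : Subgroup G} (hP : IsPGroup p P) (hPH : P ≤ H) : P ≤ pe p H :=
  fun _ hg => mem_pe (hPH hg) (IsPEl.of_mem_pgroup hP hg)

theorem conj_mem_pe {H : Subgroup G} {x g : G} (hx : ∀ a ∈ H, x * a * x⁻¹ ∈ H) (hg : g ∈ pe p H) :
    x * g * x⁻¹ ∈ pe p H := by
  have : pe p H ≤ (pe p H).comap (MulAut.conj x).toMonoidHom :=
    pe_le_iff.2 fun a ha he => mem_pe (hx a ha) (he.conj x)
  exact this hg

theorem pe_normal (H : Subgroup G) [hH : H.Normal] : (pe p H).Normal :=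
  ⟨fun _ hg x => conj_mem_pe (fun a ha => hH.conj_mem a ha x) hg⟩

theorem pe_pe_eq_top (H : Subgroup G) : pe p (⊤ : Subgroup (pe p H)) = ⊤ := by
  refine eq_top_iff.2 fun x _ => ?_
  have key : pe p H ≤ (pe p (⊤ : Subgroup (pe p H))).map (pe p H).subtype :=
    pe_le_iff.2 fun g hg he => ⟨⟨g, mem_pe hg he⟩, mem_pe trivial (he.mk _), rfl⟩
  obtain ⟨y, hy, hyx⟩ := key x.2
  rwa [← Subtype.ext hyx]

/-- A `p`-element of a finite group has a `p`-element preimage. -/
theorem exists_pEl_preimage [Fact p.Prime] [Finite G] {G' : Type*} [Group G'] (f : G →* G')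
    (N : Subgroup G) {σ : G'} (hσ : σ ∈ N.map f) (h : σ ^ p = 1) :
    ∃ g ∈ N, IsPEl p g ∧ f g = σ := by
  obtain ⟨g, hgN, rfl⟩ := hσ
  have hp : p.Prime := Fact.out
  obtain ⟨k, m, hm, hord⟩ := Nat.exists_eq_pow_mul_and_not_dvd (orderOf_pos g).ne' p hp.ne_one
  have hcop : Nat.Coprime m p := ((hp.coprime_iff_not_dvd).2 hm).symm
  obtain ⟨u, -, hu⟩ := Nat.exists_mul_mod_eq_one_of_coprime hcop hp.one_lt
  refine ⟨g ^ (m * u), pow_mem hgN _, ⟨k, ?_⟩, ?_⟩
  · rw [← pow_mul, show m * u * p ^ k = orderOf g * u by rw [hord]; ring, pow_mul,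
      pow_orderOf_eq_one, one_pow]
  · rw [map_pow, ← Nat.div_add_mod (m * u) p, hu, pow_add, pow_mul, h, one_pow, one_mul, pow_one]

/-! ### Fixed points and the defect -/

variable {Ω : Type*} [MulAction G Ω]

/-- The number of fixed points of `P` in `A`. -/
noncomputable def fxs (P : Subgroup G) (A : Set Ω) : ℕ := (A ∩ fixedPoints P Ω).ncard

variable (p) in
/-- The defect of `A` for `P`. -/
noncomputable def dd (P : Subgroup G) (A : Set Ω) : ℤ :=
  ((p : ℤ) - 1) * A.ncard - (2 * (p : ℤ) - 1) * fxs P A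

theorem mem_fixedPoints_sub {P : Subgroup G} {a : Ω} :
    a ∈ fixedPoints P Ω ↔ ∀ g ∈ P, g • a = a :=
  ⟨fun h g hg => h ⟨g, hg⟩, fun h g => h g g.2⟩

theorem fxs_le [Finite Ω] (P : Subgroup G) (A : Set Ω) : fxs P A ≤ A.ncard :=
  Set.ncard_le_ncard Set.inter_subset_left

theorem fxs_eq_ncard_iff [Finite Ω] {P : Subgroup G} {A : Set Ω} :
    fxs P A = A.ncard ↔ A ⊆ fixedPoints P Ω := by
  refine ⟨fun h => ?_, fun h => by rw [fxs, Set.inter_eq_left.2 h]⟩
  rw [← Set.eq_of_subset_of_ncard_le Set.inter_subset_left h.ge]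
  exact Set.inter_subset_right

theorem fxs_union [Finite Ω] (P : Subgroup G) {A B : Set Ω} (h : Disjoint A B) :
    fxs P (A ∪ B) = fxs P A + fxs P B := by
  rw [fxs, Set.union_inter_distrib_right, Set.ncard_union_eq (h.mono Set.inter_subset_left
    Set.inter_subset_left)]
  rfl

theorem dd_union [Finite Ω] (P : Subgroup G) {A B : Set Ω} (h : Disjoint A B) :
    dd p P (A ∪ B) = dd p P A + dd p P B := by
  simp only [dd, fxs_union P h, Set.ncard_union_eq h, Nat.cast_add]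
  ring

theorem dd_sdiff [Finite Ω] (P : Subgroup G) {A B : Set Ω} (h : B ⊆ A) :
    dd p P A = dd p P B + dd p P (A \ B) := by
  rw [← dd_union P Set.disjoint_sdiff_right, Set.union_sdiff_cancel h]

theorem dd_of_subset_fixed [Finite Ω] {P : Subgroup G} {A : Set Ω} (h : A ⊆ fixedPoints P Ω) :
    dd p P A = -(p : ℤ) * A.ncard := by
  rw [dd, fxs_eq_ncard_iff.2 h]
  ring

theorem fxs_smul (P : Subgroup G) (g : G) (A : Set Ω) :
    fxs (P.map (MulAut.conj g).toMonoidHom) (g • A) = fxs P A := by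
  have hfix : fixedPoints (P.map (MulAut.conj g).toMonoidHom) Ω = g • fixedPoints P Ω := by
    ext a
    rw [Set.mem_smul_set_iff_inv_smul_mem, mem_fixedPoints_sub, mem_fixedPoints_sub]
    constructor
    · intro h x hx
      have := h _ ⟨x, hx, rfl⟩
      rw [MulEquiv.coe_toMonoidHom, MulAut.conj_apply, mul_smul, mul_smul] at this
      exact (eq_inv_smul_iff.2 this)
    · rintro h _ ⟨x, hx, rfl⟩
      rw [MulEquiv.coe_toMonoidHom, MulAut.conj_apply, mul_smul, mul_smul, h x hx, smul_inv_smul]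
  rw [fxs, fxs, hfix, ← Set.smul_set_inter, Set.ncard_smul_set]

theorem dd_smul (P : Subgroup G) (g : G) (A : Set Ω) :
    dd p (P.map (MulAut.conj g).toMonoidHom) (g • A) = dd p P A := by
  rw [dd, dd, fxs_smul, Set.ncard_smul_set]

/-- `K`-invariance of a set. -/
def Inv (K : Subgroup G) (A : Set Ω) : Prop := ∀ g ∈ K, ∀ a ∈ A, g • a ∈ A

theorem Inv.smul_eq {K : Subgroup G} {A : Set Ω} (h : Inv K A) {g : G} (hg : g ∈ K) :
    g • A = A := by
  ext a
  rw [Set.mem_smul_set_iff_inv_smul_mem]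
  exact ⟨fun ha => by simpa using h g hg _ ha, fun ha => h _ (inv_mem hg) _ ha⟩

theorem Inv.mono {K L : Subgroup G} {A : Set Ω} (h : Inv K A) (hLK : L ≤ K) : Inv L A :=
  fun g hg => h g (hLK hg)

theorem Inv.sdiff {K : Subgroup G} {A B : Set Ω} (hA : Inv K A) (hB : Inv K B) :
    Inv K (A \ B) := fun g hg a ha =>
  ⟨hA g hg a ha.1, fun h => ha.2 (by simpa using hB _ (inv_mem hg) _ h)⟩

theorem inv_orbit (K : Subgroup G) (a : Ω) : Inv K (orbit K a) := by
  rintro g hg _ ⟨k, rfl⟩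
  exact ⟨⟨g, hg⟩ * k, mul_smul _ _ _⟩

theorem orbit_subset {K : Subgroup G} {A : Set Ω} (h : Inv K A) {a : Ω} (ha : a ∈ A) :
    orbit K a ⊆ A := by rintro _ ⟨k, rfl⟩; exact h k k.2 a ha

theorem fxs_modEq [Fact p.Prime] [Finite Ω] {P : Subgroup G} (hP : IsPGroup p P) {A : Set Ω}
    (h : Inv P A) : A.ncard ≡ fxs P A [MOD p] := by
  let S : SubMulAction P Ω := ⟨A, fun g a ha => h g g.2 a ha⟩
  have := hP.card_modEq_card_fixedPoints (α := S)
  have e : fixedPoints P S ≃ ↥(A ∩ fixedPoints P Ω) :=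
    { toFun := fun x => ⟨x.1.1, x.1.2, fun g => congrArg Subtype.val (x.2 g)⟩
      invFun := fun x => ⟨⟨x.1, x.2.1⟩, fun g => Subtype.ext (x.2.2 g)⟩ }
  rw [Nat.card_congr e, Nat.card_coe_set_eq] at this
  rwa [show Nat.card S = A.ncard from Nat.card_coe_set_eq A] at this

theorem dvd_ncard_sub_fxs [Fact p.Prime] [Finite Ω] {P : Subgroup G} (hP : IsPGroup p P)
    {A : Set Ω} (h : Inv P A) : p ∣ A.ncard - fxs P A :=
  (Nat.modEq_iff_dvd' (fxs_le P A)).1 (fxs_modEq hP h).symm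

/-- The defect as a multiple of `p`. -/
theorem dd_eq_mul [Fact p.Prime] [Finite Ω] {P : Subgroup G} (hP : IsPGroup p P)
    {A : Set Ω} (h : Inv P A) : ∃ m : ℕ, A.ncard = fxs P A + p * m ∧
      dd p P A = (p : ℤ) * (((p : ℤ) - 1) * m - fxs P A) := by
  obtain ⟨m, hm⟩ := dvd_ncard_sub_fxs hP h
  have := fxs_le P A
  have he : A.ncard = fxs P A + p * m := by omega
  refine ⟨m, he, ?_⟩
  rw [dd, he]
  push_cast
  ring

theorem dd_dvd [Fact p.Prime] [Finite Ω] {P : Subgroup G} (hP : IsPGroup p P)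
    {A : Set Ω} (h : Inv P A) : (p : ℤ) ∣ dd p P A := by
  obtain ⟨m, -, e⟩ := dd_eq_mul hP h
  exact ⟨_, e⟩

theorem fxs_conj [Fact p.Prime] [Finite G] (P Q : Sylow p G) {A : Set Ω}
    (h : ∀ g : G, ∀ a ∈ A, g • a ∈ A) : fxs (P : Subgroup G) A = fxs (Q : Subgroup G) A := by
  obtain ⟨g, rfl⟩ := MulAction.exists_smul_eq G P Q
  conv_rhs => rw [← (show Inv (⊤ : Subgroup G) A from fun g _ => h g).smul_eq (mem_top g)]
  rw [Sylow.coe_subgroup_smul, Subgroup.pointwise_smul_def]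
  exact (fxs_smul _ g A).symm

end Cfsg.Agent.SylowOrbits
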