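import Cfsg.Agent.Lib.SylowOrbits.Basic

/-!
Orbits as coset spaces, the projection between coset spaces, and counts of fixed Sylow subgroups.
-/

set_option autoImplicit false
set_option linter.unusedSectionVars false
set_option linter.style.haveILetI false

namespace Cfsg.Agent.SylowOrbits

open MulAction Subgroup
open scoped Pointwise

variable {K : Type*} [Group K] [Finite K] {Δ : Type*} [MulAction K Δ]

theorem orbit_quot (P : Subgroup K) (y : Δ) :
    (orbit K y).ncard = (stabilizer K y).index ∧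
      fxs P (orbit K y) = fxs P (Set.univ : Set (K ⧸ stabilizer K y)) := by
  refine ⟨(index_stabilizer K y).symm, ?_⟩
  have hinj := injective_ofQuotientStabilizer K y
  rw [fxs, fxs, Set.univ_inter, ← Set.ncard_image_of_injective _ hinj]
  congr 1
  ext x
  constructor
  · rintro ⟨⟨g, rfl⟩, hfix⟩
    exact ⟨(g : K ⧸ stabilizer K y), fun a => hinj <| by
      show ofQuotientStabilizer K y ((a : K) • (g : K ⧸ stabilizer K y)) = _
      rw [ofQuotientStabilizer_smul]
      exact hfix a, rfl⟩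
  · rintro ⟨q, hq, rfl⟩
    refine ⟨ofQuotientStabilizer_mem_orbit K y q, fun a => ?_⟩
    show (a : K) • ofQuotientStabilizer K y q = _
    rw [← ofQuotientStabilizer_smul]
    exact congrArg _ (hq a)

theorem dd_orbit_quot (p : ℕ) (P : Subgroup K) (y : Δ) :
    dd p P (orbit K y) = dd p P (Set.univ : Set (K ⧸ stabilizer K y)) := by
  rw [dd, dd, (orbit_quot P y).1, (orbit_quot P y).2, Set.ncard_univ, index_eq_card]

variable {H M : Subgroup K} (hHM : H ≤ M)
include hHM

theorem ncard_preimage_quot (S : Set (K ⧸ M)) :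
    (quotientMapOfLE hHM ⁻¹' S).ncard = H.relIndex M * S.ncard := by
  have he : ∀ a : K ⧸ H, (quotientEquivProdOfLE hHM a).1 = quotientMapOfLE hHM a := by
    rintro ⟨g⟩; rfl
  have : quotientEquivProdOfLE hHM '' (quotientMapOfLE hHM ⁻¹' S) = S ×ˢ Set.univ := by
    ext ⟨a, b⟩
    rw [Equiv.image_eq_preimage_symm, Set.mem_preimage, Set.mem_preimage, ← he,
      Equiv.apply_symm_apply]
    simp
  rw [← Set.ncard_image_of_injective _ (quotientEquivProdOfLE hHM).injective, this,
    Set.ncard_prod, Set.ncard_univ, mul_comm]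
  rfl

theorem fixed_quot {P : Subgroup K} {q : K ⧸ H} (hq : q ∈ fixedPoints P (K ⧸ H)) :
    quotientMapOfLE hHM q ∈ fixedPoints P (K ⧸ M) := by
  intro a
  have h := congrArg (quotientMapOfLE hHM) (hq a)
  obtain ⟨g⟩ := q
  exact h

theorem fxs_quot_le (P : Subgroup K) :
    fxs P (Set.univ : Set (K ⧸ H)) ≤ H.relIndex M * fxs P (Set.univ : Set (K ⧸ M)) := by
  rw [fxs, fxs, Set.univ_inter, Set.univ_inter, ← ncard_preimage_quot hHM]
  exact Set.ncard_le_ncard (fun q hq => fixed_quot hHM hq) (Set.toFinite _)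

theorem fixed_of_fxs_quot_eq {P : Subgroup K}
    (h : fxs P (Set.univ : Set (K ⧸ H)) = H.relIndex M * fxs P (Set.univ : Set (K ⧸ M))) {g : K}
    (hg : (g : K ⧸ M) ∈ fixedPoints P (K ⧸ M)) : (g : K ⧸ H) ∈ fixedPoints P (K ⧸ H) := by
  rw [fxs, fxs, Set.univ_inter, Set.univ_inter, ← ncard_preimage_quot hHM] at h
  rw [Set.eq_of_subset_of_ncard_le (fun q hq => fixed_quot hHM hq) h.ge (Set.toFinite _)]
  exact hg

omit hHM

variable {p : ℕ} [Fact p.Prime] {A : Type*} [MulAction K A] [Finite A] [IsPretransitive K A]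

/-- Double count of pairs of a Sylow subgroup and one of its fixed points. -/
theorem card_sylow_fix (P : Sylow p K) (a : A) :
    Nat.card A * {Q : Sylow p K | a ∈ fixedPoints (Q : Subgroup K) A}.ncard =
      Nat.card (Sylow p K) * fxs (P : Subgroup K) (Set.univ : Set A) := by
  classical
  let e1 : {x : A × Sylow p K // x.1 ∈ fixedPoints (x.2 : Subgroup K) A} ≃
      Σ b : A, {Q : Sylow p K // b ∈ fixedPoints (Q : Subgroup K) A} :=
    { toFun := fun x => ⟨x.1.1, x.1.2, x.2⟩
      invFun := fun x => ⟨(x.1, x.2.1), x.2.2⟩ }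
  let e2 : {x : A × Sylow p K // x.1 ∈ fixedPoints (x.2 : Subgroup K) A} ≃
      Σ Q : Sylow p K, {b : A // b ∈ fixedPoints (Q : Subgroup K) A} :=
    { toFun := fun x => ⟨x.1.2, x.1.1, x.2⟩
      invFun := fun x => ⟨(x.2.1, x.1), x.2.2⟩ }
  haveI := Fintype.ofFinite A
  haveI := Fintype.ofFinite (Sylow p K)
  have h := Nat.card_congr (e1.symm.trans e2)
  rw [Nat.card_sigma, Nat.card_sigma] at h
  have h1 : ∀ b : A, Nat.card {Q : Sylow p K // b ∈ fixedPoints (Q : Subgroup K) A} =
      {Q : Sylow p K | a ∈ fixedPoints (Q : Subgroup K) A}.ncard := by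
    intro b
    obtain ⟨g, rfl⟩ := MulAction.exists_smul_eq K a b
    rw [← Nat.card_coe_set_eq]
    refine (Nat.card_congr ((MulAction.toPerm g).subtypeEquiv fun Q => ?_)).symm
    show _ ↔ g • a ∈ fixedPoints ((g • Q : Sylow p K) : Subgroup K) A
    rw [Set.mem_ofPred_eq, mem_fixedPoints_sub, mem_fixedPoints_sub, Sylow.coe_subgroup_smul]
    constructor
    · intro hQ x hx
      obtain ⟨q, hq, rfl⟩ := hx
      show (g * q * g⁻¹) • g • a = g • a
      rw [mul_smul, mul_smul, inv_smul_smul, hQ q hq]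
    · intro hQ q hq
      have := hQ (MulAut.conj g q) ⟨q, hq, rfl⟩
      simpa [mul_smul] using this
  have h2 : ∀ Q : Sylow p K, Nat.card {b : A // b ∈ fixedPoints (Q : Subgroup K) A} =
      fxs (P : Subgroup K) (Set.univ : Set A) := by
    intro Q
    rw [fxs_conj P Q (fun _ _ _ => Set.mem_univ _), fxs, Set.univ_inter, ← Nat.card_coe_set_eq]
  simp only [h1, h2, Finset.sum_const, Finset.card_univ, smul_eq_mul] at h
  rwa [Nat.card_eq_fintype_card, Nat.card_eq_fintype_card]

end Cfsg.Agent.SylowOrbits
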