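import Cfsg.Agent.Lib.SylowOrbits.Orbits
import Cfsg.Agent.Lib.SylowOrbits.Quot
import Cfsg.Agent.Lib.SylowOrbits.AltFacts

/-!
Block systems of the orbits of a group generated by `p`-elements, with small defect.
-/

set_option autoImplicit false
set_option linter.unusedSectionVars false
set_option linter.style.haveILetI false

namespace Cfsg.Agent.SylowOrbits

open MulAction Subgroup Equiv
open scoped Pointwise

universe u

variable {p : ℕ} [Fact p.Prime]
variable {K Δ : Type u} [Group K] [Finite K] [MulAction K Δ] [Finite Δ] {N : ℕ}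

theorem quot_moved (hgen : pe p (⊤ : Subgroup K) = ⊤) (P : Sylow p K) {M : Subgroup K}
    (hM : M ≠ ⊤) : ¬ ∀ a : K ⧸ M, a ∈ fixedPoints (P : Subgroup K) (K ⧸ M) := by
  intro h
  refine hM (eq_top_iff.2 fun g _ => ?_)
  have := fixed_of_orbit_fixed hgen P (A := (Set.univ : Set (K ⧸ M))) (fun _ _ _ _ => trivial)
    (fun a _ => h a) g (a := ((1 : K) : K ⧸ M)) trivial
  rw [Quotient.smul_coe, smul_eq_mul, mul_one, QuotientGroup.eq, mul_one, inv_mem_iff] at this
  exact this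

theorem mem_of_fix_base {M : Subgroup K} {g : K}
    (h : g • ((1 : K) : K ⧸ M) = ((1 : K) : K ⧸ M)) : g ∈ M := by
  rwa [Quotient.smul_coe, smul_eq_mul, mul_one, QuotientGroup.eq, mul_one, inv_mem_iff] at h

theorem fix_base_of_mem {M : Subgroup K} {g : K} (h : g ∈ M) :
    g • ((1 : K) : K ⧸ M) = ((1 : K) : K ⧸ M) := by
  rwa [Quotient.smul_coe, smul_eq_mul, mul_one, QuotientGroup.eq, mul_one, inv_mem_iff]

/-- If some conjugate of `P` lies in `M`, every `p`-element of `M` lies in a Sylow subgroup of `K`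
contained in `M`. -/
theorem exists_sylow_le (P : Sylow p K) {M : Subgroup K}
    (h : fxs (P : Subgroup K) (Set.univ : Set (K ⧸ M)) ≠ 0) :
    (∃ Q : Sylow p K, (Q : Subgroup K) ≤ M) ∧
      ∀ g ∈ M, IsPEl p g → ∃ Q : Sylow p K, (Q : Subgroup K) ≤ M ∧ g ∈ (Q : Subgroup K) := by
  obtain ⟨a, -, ha⟩ := Set.nonempty_of_ncard_ne_zero h
  obtain ⟨x, rfl⟩ := QuotientGroup.mk_surjective a
  have hQ : ((x⁻¹ • P : Sylow p K) : Subgroup K) ≤ M := by
    intro q hq
    rw [Sylow.coe_subgroup_smul, Subgroup.mem_pointwise_smul_iff_inv_smul_mem] at hq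
    have h1 := mem_fixedPoints_sub.1 ha _ hq
    refine mem_of_fix_base ?_
    rw [Quotient.smul_coe, smul_eq_mul, QuotientGroup.eq] at h1
    rw [Quotient.smul_coe, smul_eq_mul, QuotientGroup.eq]
    simpa [mul_assoc] using h1
  refine ⟨⟨_, hQ⟩, fun g hg he => ?_⟩
  obtain ⟨R, hR⟩ := exists_sylow_mem (K := M) (he.mk hg)
  obtain ⟨m, hm⟩ := MulAction.exists_smul_eq M ((x⁻¹ • P).subtype hQ) R
  refine ⟨(m : K) • (x⁻¹ • P), Sylow.smul_le hQ m, ?_⟩
  have hsub := Sylow.smul_subtype hQ m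
  rw [hm] at hsub
  rw [hsub] at hR
  exact hR

theorem exists_system (hIH : IH.{u} p N) (hgen : pe p (⊤ : Subgroup K) = ⊤) (P : Sylow p K)
    {y : Δ} (hy : ∃ g : K, g • y ≠ y) (hN : (orbit K y).ncard < N)
    (hdd : dd p (P : Subgroup K) (orbit K y) < (2 * (p : ℤ) - 1) * p) :
    ∃ M : Subgroup K, IsCoatom M ∧ stabilizer K y ≤ M ∧ M.index < N ∧
      0 ≤ dd p (P : Subgroup K) (Set.univ : Set (K ⧸ M)) ∧
      dd p (P : Subgroup K) (orbit K y) =
        ((stabilizer K y).relIndex M : ℤ) * dd p (P : Subgroup K) (Set.univ : Set (K ⧸ M)) ∧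
      (fxs (P : Subgroup K) (Set.univ : Set (K ⧸ M)) ≠ 0 → ∀ g ∈ M, IsPEl p g → g • y = y) := by
  have hne : stabilizer K y ≠ ⊤ := by
    intro h
    obtain ⟨g, hg⟩ := hy
    exact hg (mem_stabilizer_iff.1 (h ▸ mem_top g))
  obtain h | ⟨M, hM, hle⟩ := eq_top_or_exists_le_coatom (stabilizer K y)
  · exact absurd h hne
  set b := (stabilizer K y).relIndex M
  have hbk : (orbit K y).ncard = b * M.index := by
    rw [← index_stabilizer, relIndex_mul_index hle]
  have hidx : (stabilizer K y).index ≠ 0 := Subgroup.FiniteIndex.index_ne_zero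
  have hb : 1 ≤ b := Nat.one_le_iff_ne_zero.2 fun h => by
    rw [← relIndex_mul_index hle] at hidx
    simp [b] at h
    exact hidx (by rw [h, zero_mul])
  have hkN : M.index < N :=
    lt_of_le_of_lt (by rw [hbk]; exact Nat.le_mul_of_pos_left _ hb) hN
  have hB : 0 ≤ dd p (P : Subgroup K) (Set.univ : Set (K ⧸ M)) :=
    (hIH K (K ⧸ M) (by rwa [← index_eq_card]) P (quot_moved hgen P hM.1)).1
  set fB := fxs (P : Subgroup K) (Set.univ : Set (K ⧸ M))
  set f := fxs (P : Subgroup K) (orbit K y)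
  have hf : f ≤ b * fB := by
    simp only [f, (orbit_quot (P : Subgroup K) y).2]
    exact fxs_quot_le hle _
  have heq : dd p (P : Subgroup K) (orbit K y) =
      (b : ℤ) * dd p (P : Subgroup K) (Set.univ : Set (K ⧸ M)) +
        (2 * (p : ℤ) - 1) * ((b : ℤ) * fB - f) := by
    simp only [dd, hbk, Set.ncard_univ, ← index_eq_card, Nat.cast_mul, f, fB]
    ring
  have hp : p.Prime := Fact.out
  obtain ⟨t, ht⟩ : (p : ℤ) ∣ (b : ℤ) * fB - f := by
    have h1 : (p : ℤ) ∣ (2 * (p : ℤ) - 1) * ((b : ℤ) * fB - f) := by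
      have := dd_dvd P.isPGroup' (A := orbit K y) (fun g _ => inv_orbit' y g trivial)
      rw [heq] at this
      exact (dvd_add_right (dvd_mul_of_dvd_right
        (dd_dvd P.isPGroup' (A := (Set.univ : Set (K ⧸ M))) (fun _ _ _ _ => trivial)) _)).1 this
    rcases (Int.prime_iff_natAbs_prime.2 (by simpa using hp)).dvd_or_dvd h1 with h2 | h2
    · exfalso
      have h3 : (p : ℤ) ∣ 1 := by
        have := dvd_sub (dvd_mul_left (p : ℤ) 2) h2
        simpa using this
      exact hp.ne_one (by exact_mod_cast Int.eq_one_of_dvd_one (Int.natCast_nonneg _) h3)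
    · exact h2
  have hp2 : (2 : ℤ) ≤ p := by exact_mod_cast hp.two_le
  have hfz : (f : ℤ) ≤ (b : ℤ) * fB := by exact_mod_cast hf
  have ht0 : t = 0 := by
    have h0 : 0 ≤ t := by nlinarith
    by_contra h
    have h1 : 1 ≤ t := by omega
    have h2 : (2 * (p : ℤ) - 1) * p ≤ (2 * (p : ℤ) - 1) * ((p : ℤ) * t) := by
      apply mul_le_mul_of_nonneg_left _ (by omega)
      nlinarith
    have h3 : 0 ≤ (b : ℤ) * dd p (P : Subgroup K) (Set.univ : Set (K ⧸ M)) :=
      mul_nonneg (Int.natCast_nonneg _) hB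
    rw [← ht] at h2
    omega
  rw [ht0, mul_zero] at ht
  refine ⟨M, hM, hle, hkN, hB, by rw [heq, ht, mul_zero, add_zero], fun hfB g hg he => ?_⟩
  obtain ⟨-, hall⟩ := exists_sylow_le P hfB
  obtain ⟨Q, hQM, hgQ⟩ := hall g hg he
  have hexact : fxs (Q : Subgroup K) (Set.univ : Set (K ⧸ stabilizer K y)) =
      b * fxs (Q : Subgroup K) (Set.univ : Set (K ⧸ M)) := by
    rw [← fxs_conj P Q (fun _ _ _ => Set.mem_univ _), ← fxs_conj P Q (fun _ _ _ => Set.mem_univ _),
      ← (orbit_quot (P : Subgroup K) y).2]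
    change f = b * fB
    exact_mod_cast (sub_eq_zero.1 ht).symm
  have h1 := mem_fixedPoints_sub.1 (fixed_of_fxs_quot_eq hle hexact (g := 1)
    (mem_fixedPoints_sub.2 fun q hq => fix_base_of_mem (hQM hq))) g hgQ
  exact mem_stabilizer_iff.1 (mem_of_fix_base h1)

/-- A natural system for the orbit of `y`. -/
structure NatSys (p : ℕ) (M : Subgroup K) (y : Δ) : Prop where
  le : stabilizer K y ≤ M
  fix : ∀ g ∈ M, IsPEl p g → g • y = y
  coatom : IsCoatom M
  low : 2 * (p : ℤ) - 1 - cc p ≤ M.index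
  five : 5 ≤ M.index
  three : p = 3 ∨ p + 3 ≤ M.index
  lt : M.index < 2 * p
  fxs_eq : ∀ P : Sylow p K, fxs (P : Subgroup K) (Set.univ : Set (K ⧸ M)) + p = M.index
  range_eq : ∀ [Fintype (K ⧸ M)] [DecidableEq (K ⧸ M)],
    (toPermHom K (K ⧸ M)).range = alternatingGroup (K ⧸ M)

/-- A nontrivial `p`-group with all but `p` points fixed contains a `p`-cycle. -/
theorem exists_pcycle {α : Type*} [Fintype α] [DecidableEq α] [MulAction K α] {P : Subgroup K}
    (hP : IsPGroup p P) (hmov : ¬ ∀ a : α, a ∈ fixedPoints P α)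
    (hfix : fxs P (Set.univ : Set α) + p = Nat.card α) :
    ∃ g ∈ P, (toPermHom K α g).IsCycle ∧ (toPermHom K α g).support.card = p := by
  have hp : p.Prime := Fact.out
  simp only [mem_fixedPoints_sub, not_forall] at hmov
  obtain ⟨a, x, hx, hne⟩ := hmov
  obtain ⟨k, hk⟩ := IsPEl.of_mem_pgroup hP hx
  set σ := toPermHom K α x
  have hσ : σ ≠ 1 := fun h => hne (Equiv.congr_fun h a)
  obtain ⟨m, -, hord⟩ := (Nat.dvd_prime_pow hp).1
    (orderOf_dvd_of_pow_eq_one (show σ ^ p ^ k = 1 by rw [← map_pow, hk, map_one]))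
  obtain ⟨j, rfl⟩ : ∃ j, m = j + 1 := by
    refine Nat.exists_eq_succ_of_ne_zero fun h => hσ ?_
    rw [← orderOf_eq_one_iff, hord, h, pow_zero]
  have hτ : orderOf (σ ^ p ^ j) = p := by
    rw [orderOf_pow, hord, Nat.gcd_eq_right ⟨p, pow_succ p j⟩, pow_succ,
      Nat.mul_div_cancel_left _ (pow_pos hp.pos j)]
  have hmap : toPermHom K α (x ^ p ^ j) = σ ^ p ^ j := map_pow _ _ _
  have hsupp : ((σ ^ p ^ j).support : Set α) ⊆ (fixedPoints P α)ᶜ := by
    intro b hb hfb
    rw [Finset.mem_coe, Perm.mem_support, ← hmap] at hb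
    exact hb (mem_fixedPoints_sub.1 hfb _ (pow_mem hx _))
  have hle : (σ ^ p ^ j).support.card ≤ p := by
    have h := Set.ncard_le_ncard hsupp (Set.toFinite _)
    rw [Set.ncard_coe_finset, Set.ncard_compl] at h
    rw [fxs, Set.univ_inter] at hfix
    omega
  have hc : (σ ^ p ^ j).IsCycle :=
    Perm.isCycle_of_prime_order (hτ.symm ▸ hp) (by rw [hτ]; have := hp.pos; omega)
  refine ⟨x ^ p ^ j, pow_mem hx _, hmap.symm ▸ hc, ?_⟩
  rw [hmap, ← hc.orderOf, hτ]

theorem natSys_of_le (hp2 : p ≠ 2) (hIH : IH.{u} p N) (hgen : pe p (⊤ : Subgroup K) = ⊤)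
    (P : Sylow p K) {y : Δ} {M : Subgroup K} (hM : IsCoatom M) (hle : stabilizer K y ≤ M)
    (hN : M.index < N)
    (h1 : fxs (P : Subgroup K) (Set.univ : Set (K ⧸ M)) ≠ 0 → ∀ g ∈ M, IsPEl p g → g • y = y)
    (hd : dd p (P : Subgroup K) (Set.univ : Set (K ⧸ M)) ≤ cc p * p) : NatSys p M y := by
  have hp : p.Prime := Fact.out
  haveI : Nontrivial (K ⧸ M) := by
    rw [← Finite.one_lt_card_iff_nontrivial, ← index_eq_card]
    exact Subgroup.one_lt_index_of_ne_top hM.1
  haveI hprim : IsPreprimitive K (K ⧸ M) := (isCoatom_stabilizer_iff_preprimitive K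
    ((1 : K) : K ⧸ M)).1 (by
      rwa [show stabilizer K ((1 : K) : K ⧸ M) = M from
        Subgroup.ext fun g => ⟨mem_of_fix_base, fix_base_of_mem⟩])
  obtain ⟨hnn, hprimEq⟩ := hIH K (K ⧸ M) (by rwa [← index_eq_card]) P (quot_moved hgen P hM.1)
  have hk := hprimEq hprim hd
  rw [← index_eq_card] at hk
  set fB := fxs (P : Subgroup K) (Set.univ : Set (K ⧸ M))
  have hval : dd p (P : Subgroup K) (Set.univ : Set (K ⧸ M)) = p * ((p : ℤ) - 1 - fB) := by
    simp only [dd, Set.ncard_univ, ← index_eq_card, hk, Nat.cast_add, fB]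
    ring
  have hp0 : (0 : ℤ) < p := by exact_mod_cast hp.pos
  rw [hval] at hnn hd
  have hA : (fB : ℤ) ≤ p - 1 := by nlinarith
  have hB : (p : ℤ) - 1 - cc p ≤ fB := by nlinarith
  have hfix : ∀ Q : Sylow p K, fxs (Q : Subgroup K) (Set.univ : Set (K ⧸ M)) + p = M.index :=
    fun Q => by rw [fxs_conj Q P (fun _ _ _ => Set.mem_univ _), hk]
  have hf0 : fB ≠ 0 := by
    rcases cc_cases hp hp2 with ⟨h, hc⟩ | ⟨h, hc⟩ <;> rw [hc] at hB <;> omega
  have h5 : 5 ≤ M.index ∧ (p = 3 ∨ p + 3 ≤ M.index) ∧ M.index < 2 * p := by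
    rcases cc_cases hp hp2 with ⟨h, hc⟩ | ⟨h, hc⟩ <;> rw [hc] at hB <;>
      refine ⟨?_, ?_, ?_⟩ <;> omega
  refine
    { le := hle
      fix := h1 hf0
      coatom := hM
      low := by omega
      five := h5.1
      three := h5.2.1
      lt := h5.2.2
      fxs_eq := hfix
      range_eq := ?_ }
  intro _ _
  set Γ := (toPermHom K (K ⧸ M)).range
  refine le_antisymm ?_ ?_
  · rintro _ ⟨g, rfl⟩
    have key : pe p (⊤ : Subgroup K) ≤
        (alternatingGroup (K ⧸ M)).comap (toPermHom K (K ⧸ M)) := by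
      refine pe_le_iff.2 fun x _ hx => ?_
      obtain ⟨k, hk'⟩ := hx
      rw [mem_comap, Perm.mem_alternatingGroup]
      rcases Int.units_eq_one_or (Perm.sign (toPermHom K (K ⧸ M) x)) with h | h
      · exact h
      · exfalso
        have h2 := congrArg (fun z => Perm.sign (toPermHom K (K ⧸ M) z)) hk'
        simp only [map_pow, map_one, h] at h2
        rw [Odd.neg_one_pow ((odd_of_ne_two hp2).pow)] at h2
        exact absurd h2 (by decide)
    rw [hgen] at key
    exact key (mem_top g)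
  · have hΓ : IsPreprimitive Γ (K ⧸ M) :=
      IsPreprimitive.of_surjective (φ := (toPermHom K (K ⧸ M)).rangeRestrict)
        (f := { toFun := id, map_smul' := fun _ _ => rfl }) Function.surjective_id
    obtain ⟨g, -, hc, hs⟩ := exists_pcycle (α := K ⧸ M) P.isPGroup' (quot_moved hgen P hM.1)
      (by rw [← index_eq_card]; exact hk.symm)
    rcases h5.2.1 with h3 | h3
    · subst h3
      exact Perm.alternatingGroup_le_of_isPreprimitive_of_isThreeCycle_mem hΓ
        (card_support_eq_three_iff.1 hs) ⟨g, rfl⟩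
    · exact Cfsg.Agent.S0713.result Γ hΓ hp
        (by rw [← Nat.card_eq_fintype_card, ← index_eq_card]; exact h5.1)
        (by rw [← Nat.card_eq_fintype_card, ← index_eq_card]; exact h3) hc hs ⟨g, rfl⟩

theorem NatSys.exists_cycle_mem {M : Subgroup K} {y : Δ} (h : NatSys p M y)
    (hgen : pe p (⊤ : Subgroup K) = ⊤) [Fintype (K ⧸ M)] [DecidableEq (K ⧸ M)] (P : Sylow p K) :
    ∃ g ∈ (P : Subgroup K), (toPermHom K (K ⧸ M) g).IsCycle ∧
      (toPermHom K (K ⧸ M) g).support.card = p :=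
  exists_pcycle P.isPGroup' (quot_moved hgen P h.coatom.1)
    (by rw [h.fxs_eq P, index_eq_card])

theorem NatSys.fxs_ne_zero {M : Subgroup K} {y : Δ} (h : NatSys p M y) (P : Sylow p K) :
    fxs (P : Subgroup K) (Set.univ : Set (K ⧸ M)) ≠ 0 := by
  have h1 := h.fxs_eq P
  have h5 := h.five
  have h3 := h.three
  omega

theorem ker_le {M : Subgroup K} : (toPermHom K (K ⧸ M)).ker ≤ M := by
  intro g hg
  refine mem_of_fix_base (g := g) ?_
  have h := Equiv.congr_fun (MonoidHom.mem_ker.1 hg) ((1 : K) : K ⧸ M)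
  simpa only [toPermHom_apply, toPerm_apply, Perm.one_apply] using h

end Cfsg.Agent.SylowOrbits
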