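import Cfsg.Agent.Lib.SylowOrbits.Stab
import Cfsg.Agent.Lib.SylowOrbits.System

/-!
If all orbits of all point stabilisers carry natural systems, some element moves exactly `p` points.
-/

set_option autoImplicit false
set_option linter.unusedSectionVars false
set_option linter.style.haveILetI false

namespace Cfsg.Agent.SylowOrbits

open MulAction Subgroup Equiv
open scoped Pointwise commutatorElement

universe u

variable {p : ℕ} [Fact p.Prime]

section System

variable {K Δ : Type u} [Group K] [Finite K] [MulAction K Δ] [Finite Δ]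

theorem natSys_map_eq {M : Subgroup K} {y : Δ} (h : NatSys p M y) (T : Subgroup K) [T.Normal] :
    T ≤ (toPermHom K (K ⧸ M)).ker ∨
      T.map (toPermHom K (K ⧸ M)) = (toPermHom K (K ⧸ M)).range := by
  classical
  haveI := Fintype.ofFinite (K ⧸ M)
  set ψ := toPermHom K (K ⧸ M)
  haveI : IsSimpleGroup ψ.range := by
    rw [h.range_eq]
    exact alternatingGroup.isSimpleGroup (by rw [← index_eq_card]; exact h.five)
  haveI hn : (T.map ψ.rangeRestrict).Normal :=
    Subgroup.Normal.map inferInstance _ ψ.rangeRestrict_surjective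
  rcases hn.eq_bot_or_eq_top with h1 | h1
  · left
    intro g hg
    have h2 : ψ.rangeRestrict g ∈ T.map ψ.rangeRestrict := ⟨g, hg, rfl⟩
    rw [h1, mem_bot] at h2
    exact MonoidHom.mem_ker.2 (congrArg Subtype.val h2)
  · right
    refine le_antisymm (map_le_range ψ T) ?_
    rintro _ ⟨g, rfl⟩
    obtain ⟨a, ha, hag⟩ : ψ.rangeRestrict g ∈ T.map ψ.rangeRestrict := h1 ▸ mem_top _
    exact ⟨a, ha, congrArg Subtype.val hag⟩

theorem natSys_range_ne_bot {M : Subgroup K} {y : Δ} (h : NatSys p M y) :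
    ¬ (⊤ : Subgroup K) ≤ (toPermHom K (K ⧸ M)).ker := fun e =>
  h.coatom.1 (top_le_iff.1 (e.trans ker_le))

theorem natSys_commutator {M : Subgroup K} {y : Δ} (h : NatSys p M y) :
    ⁅(toPermHom K (K ⧸ M)).range, (toPermHom K (K ⧸ M)).range⁆ =
      (toPermHom K (K ⧸ M)).range := by
  classical
  haveI := Fintype.ofFinite (K ⧸ M)
  set ψ := toPermHom K (K ⧸ M)
  have e : (commutator K).map ψ = ⁅ψ.range, ψ.range⁆ := by
    rw [commutator_def, map_commutator, ← MonoidHom.range_eq_map]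
  rcases natSys_map_eq h (commutator K) with h1 | h1
  · exfalso
    have h5 : 5 ≤ Nat.card (K ⧸ M) := by rw [← index_eq_card]; exact h.five
    haveI := alternatingGroup.nontrivial_of_three_le_card (α := K ⧸ M) (by omega)
    refine top_ne_bot (α := Subgroup (alternatingGroup (K ⧸ M))) ?_
    rw [← alternatingGroup.center_eq_bot (α := K ⧸ M) (by omega), eq_comm, eq_top_iff]
    rintro ⟨a, ha⟩ -
    rw [mem_center_iff]
    rintro ⟨b, hb⟩
    rw [← h.range_eq] at ha hb
    obtain ⟨x, rfl⟩ := ha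
    obtain ⟨z, rfl⟩ := hb
    have h2 : ⁅z, x⁆ ∈ ψ.ker := h1 (commutator_mem_commutator (mem_top _) (mem_top _))
    rw [MonoidHom.mem_ker, map_commutatorElement, commutatorElement_eq_one_iff_mul_comm] at h2
    exact Subtype.ext h2
  · rw [← e, h1]

/-- Lifting an element of order `p` to a `p`-element lying in the other systems. -/
theorem exists_lift {ι : Type*} (s : Finset ι) (M : ι → Subgroup K) (y : ι → Δ) {M₀ : Subgroup K}
    {y₀ : Δ} (h₀ : NatSys p M₀ y₀) (h : ∀ i ∈ s, NatSys p (M i) (y i)) {σ : Perm (K ⧸ M₀)}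
    (hσ : σ ∈ (toPermHom K (K ⧸ M₀)).range) (hσp : σ ^ p = 1)
    (hfix : ∀ i ∈ s, (toPermHom K (K ⧸ M i)).ker = (toPermHom K (K ⧸ M₀)).ker →
      ∀ g, toPermHom K (K ⧸ M₀) g = σ → g ∈ M i) :
    ∃ g : K, IsPEl p g ∧ toPermHom K (K ⧸ M₀) g = σ ∧ ∀ i ∈ s, g • y i = y i := by
  classical
  set ψ := toPermHom K (K ⧸ M₀)
  set s' := s.filter fun i => (toPermHom K (K ⧸ M i)).ker ≠ ψ.ker
  suffices key : ∀ t : Finset ι, t ⊆ s' →
      ∃ T : Subgroup K, T.Normal ∧ T.map ψ = ψ.range ∧ ∀ i ∈ t, T ≤ M i by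
    obtain ⟨T, -, hT, hTle⟩ := key s' subset_rfl
    obtain ⟨g, hgT, hge, hgσ⟩ := exists_pEl_preimage ψ T (hT ▸ hσ) hσp
    refine ⟨g, hge, hgσ, fun i hi => (h i hi).fix g ?_ hge⟩
    by_cases hk : (toPermHom K (K ⧸ M i)).ker = ψ.ker
    · exact hfix i hi hk g hgσ
    · exact hTle i (Finset.mem_filter.2 ⟨hi, hk⟩) hgT
  intro t
  induction t using Finset.induction with
  | empty => exact fun _ => ⟨⊤, inferInstance, (MonoidHom.range_eq_map ψ).symm, by simp⟩
  | insert a t ha ih =>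
    intro hsub
    obtain ⟨T, hTn, hT, hTle⟩ := ih fun i hi => hsub (Finset.mem_insert_of_mem hi)
    obtain ⟨has, hne⟩ := Finset.mem_filter.1 (hsub (Finset.mem_insert_self a t))
    set Ka := (toPermHom K (K ⧸ M a)).ker
    have hKa : Ka.map ψ = ψ.range := by
      refine (natSys_map_eq h₀ Ka).resolve_left fun hle => ?_
      rcases natSys_map_eq (h a has) ψ.ker with h1 | h1
      · exact hne (le_antisymm hle h1)
      · refine natSys_range_ne_bot h₀ fun k _ => ?_
        obtain ⟨n, hn, hnk⟩ : toPermHom K (K ⧸ M a) k ∈ ψ.ker.map (toPermHom K (K ⧸ M a)) := by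
          rw [h1]; exact ⟨k, rfl⟩
        have : n⁻¹ * k ∈ Ka := by
          rw [MonoidHom.mem_ker, map_mul, map_inv, hnk, inv_mul_cancel]
        have := mul_mem hn (hle this)
        rwa [mul_inv_cancel_left] at this
    refine ⟨⁅T, Ka⁆, commutator_normal T Ka, ?_, fun i hi => ?_⟩
    · rw [map_commutator, hT, hKa, natSys_commutator h₀]
    · rcases Finset.mem_insert.1 hi with rfl | hi
      · exact (commutator_le_right T Ka).trans ker_le
      · exact (commutator_le_left T Ka).trans (hTle i hi)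

/-- A system with the same kernel as `M₀` is given by a point of `K ⧸ M₀`. -/
theorem exists_point_of_ker_eq (hgen : pe p (⊤ : Subgroup K) = ⊤) (P : Sylow p K)
    {M M₀ : Subgroup K} {y y₀ : Δ} (h : NatSys p M y) (h₀ : NatSys p M₀ y₀)
    (hker : (toPermHom K (K ⧸ M)).ker = (toPermHom K (K ⧸ M₀)).ker) :
    ∃ i : K ⧸ M₀, M = stabilizer K i := by
  classical
  haveI := Fintype.ofFinite (K ⧸ M₀)
  haveI := Fintype.ofFinite (K ⧸ M)
  obtain ⟨⟨Q, hQ⟩, -⟩ := exists_sylow_le P (h.fxs_ne_zero P)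
  obtain ⟨g, hg, hc, hs⟩ := h₀.exists_cycle_mem hgen Q
  have hcard : ∀ {M : Subgroup K} {y : Δ}, NatSys p M y → ∀ [Fintype (K ⧸ M)],
      2 * (toPermHom K (K ⧸ M)).ker.index = (M.index).factorial := by
    intro M y hM _
    haveI : Nontrivial (K ⧸ M) := by
      rw [← Finite.one_lt_card_iff_nontrivial, ← index_eq_card]; have := hM.five; omega
    rw [index_ker, hM.range_eq, two_mul_nat_card_alternatingGroup, Nat.card_perm, index_eq_card]
  have hk : M.index = M₀.index := by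
    have h1 := hcard h
    rw [hker, hcard h₀] at h1
    exact ((Nat.factorial_inj (by have := h₀.five; omega)).1 h1).symm
  refine exists_eq_stabilizer h₀.range_eq (by rw [← index_eq_card]; exact h₀.three)
    (by rw [← index_eq_card]; exact h₀.lt) (by rw [← index_eq_card]; exact h₀.five)
    (hker ▸ ker_le) h.coatom.1 (hQ hg) hc hs (by rw [hk, index_eq_card])

/-- Two conjugates of a natural system contain generators of the group. -/
theorem closure_two_eq_top (hp2 : p ≠ 2) (hgen : pe p (⊤ : Subgroup K) = ⊤) {M : Subgroup K}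
    {y : Δ} (h : NatSys p M y) {k : K} (hk : k ∉ M) {L : Subgroup K}
    (h1 : ∀ g, IsPEl p g → g ∈ M → g ∈ L)
    (h2 : ∀ g, IsPEl p g → k⁻¹ * g * k ∈ M → g ∈ L) : L = ⊤ := by
  classical
  haveI := Fintype.ofFinite (K ⧸ M)
  have hn : p + 2 ≤ Nat.card (K ⧸ M) := by
    rw [← index_eq_card]; have := h.five; have := h.three; omega
  set i₀ : K ⧸ M := ((1 : K) : K ⧸ M)
  set i₁ : K ⧸ M := (k : K ⧸ M)
  have hne : i₀ ≠ i₁ := by
    intro e
    rw [QuotientGroup.eq, inv_one, one_mul] at e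
    exact hk e
  have hi₁ : ∀ g : K, g • i₁ = i₁ → k⁻¹ * g * k ∈ M := by
    intro g hg
    rw [Quotient.smul_coe, smul_eq_mul, QuotientGroup.eq] at hg
    simpa [mul_assoc] using inv_mem hg
  have step : ∀ (av a b : K ⧸ M), av ≠ a → av ≠ b → a ≠ b →
      ∃ g : K, IsPEl p g ∧ g • av = av ∧ g • a = b := by
    intro av a b hava havb hab
    obtain ⟨σ, hσ, hσp, hfix, hσab, -, -⟩ := exists_cycle hp2 hn {av} (by simp) hab
      (by simpa using hava.symm) (by simpa using havb.symm)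
    obtain ⟨g, -, hge, hgσ⟩ := exists_pEl_preimage (toPermHom K (K ⧸ M)) ⊤
      (σ := σ) (by rw [← MonoidHom.range_eq_map, h.range_eq]; exact hσ) hσp
    exact ⟨g, hge, (Equiv.congr_fun hgσ av).trans (hfix av (Finset.mem_singleton_self av)),
      (Equiv.congr_fun hgσ a).trans hσab⟩
  have hto : ∀ i, i ≠ i₁ → ∃ l ∈ L, l • i = i₀ := by
    intro i hi
    by_cases h0 : i = i₀
    · exact ⟨1, one_mem _, by rw [h0, one_smul]⟩
    · obtain ⟨g, hge, hg1, hg2⟩ := step i₁ i i₀ hi.symm hne.symm h0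
      exact ⟨g, h2 g hge (hi₁ g hg1), hg2⟩
  have hall : ∀ i, ∃ l ∈ L, l • i = i₀ := by
    intro i
    by_cases hi : i = i₁
    · obtain ⟨i₂, h20, h21⟩ : ∃ i₂, i₂ ≠ i₀ ∧ i₂ ≠ i₁ := by
        obtain ⟨i₂, hi₂⟩ := Finset.exists_mem_notMem_of_card_lt_card
          (t := Finset.univ) (s := {i₀, i₁}) (by
            rw [Finset.card_univ, ← Nat.card_eq_fintype_card]
            have := Finset.card_le_two (a := i₀) (b := i₁)
            have := (Fact.out : p.Prime).two_le
            omega)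
        exact ⟨i₂, by simpa using hi₂.2⟩
      obtain ⟨g, hge, hg1, hg2⟩ := step i₀ i₁ i₂ hne h20.symm h21.symm
      obtain ⟨l, hl, hl2⟩ := hto i₂ h21
      exact ⟨l * g, mul_mem hl (h1 g hge (mem_of_fix_base hg1)), by rw [hi, mul_smul, hg2, hl2]⟩
    · exact hto i hi
  refine eq_top_iff.2 (hgen.ge.trans (pe_le_iff.2 fun g _ hge => ?_))
  obtain ⟨Q, hQ⟩ := exists_sylow_mem hge
  obtain ⟨i, -, hi⟩ := Set.nonempty_of_ncard_ne_zero (h.fxs_ne_zero Q)
  obtain ⟨l, hl, hli⟩ := hall i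
  have hc : l * g * l⁻¹ ∈ L := h1 _ (hge.conj l) (mem_of_fix_base (by
    rw [show ((1 : K) : K ⧸ M) = l • i from hli.symm, mul_smul, mul_smul, inv_smul_smul,
      mem_fixedPoints_sub.1 hi g hQ]))
  simpa [mul_assoc] using mul_mem (mul_mem (inv_mem hl) hc) hl

end System

variable {X Δ : Type u} [Group X] [Finite X] [MulAction X Δ] [Finite Δ]

theorem exists_sylow_fix [IsPretransitive X Δ] (P : Sylow p X) {ε₀ : Δ}
    (hε₀ : (P : Subgroup X) ≤ stabilizer X ε₀) (ε : Δ) :
    ∃ Q : Sylow p X, (Q : Subgroup X) ≤ stabilizer X ε := by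
  obtain ⟨g, rfl⟩ := exists_smul_eq X ε₀ ε
  refine ⟨g • P, fun q hq => ?_⟩
  rw [Sylow.coe_subgroup_smul, Subgroup.pointwise_smul_def] at hq
  obtain ⟨x, hx, rfl⟩ := hq
  show (g * x * g⁻¹) • g • ε₀ = g • ε₀
  rw [mul_smul, mul_smul, inv_smul_smul, hε₀ hx]

theorem moved_of_conj (P Q : Sylow p X) (hP : ¬ ∀ a : Δ, a ∈ fixedPoints (P : Subgroup X) Δ) :
    ¬ ∀ a : Δ, a ∈ fixedPoints (Q : Subgroup X) Δ := by
  intro h
  obtain ⟨g, rfl⟩ := MulAction.exists_smul_eq X P Q
  refine hP fun a => ?_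
  have := h (g • a)
  rw [Sylow.coe_subgroup_smul, Subgroup.pointwise_smul_def] at this
  have h2 := (smul_fixedPoints_conj _ g).1 this
  rwa [inv_smul_smul] at h2

/-- If all orbits of all point stabilisers have natural systems, some element moves `p` points. -/
theorem exists_moved_eq_p (hp2 : p ≠ 2) [IsPreprimitive X Δ] (P : Sylow p X) {ε₀ : Δ}
    (hε₀ : (P : Subgroup X) ≤ stabilizer X ε₀)
    (hP : ¬ ∀ a : Δ, a ∈ fixedPoints (P : Subgroup X) Δ)
    (hall : ∀ ε y : Δ, y ≠ ε → ∃ M : Subgroup (SK (X := X) p ε), NatSys p M y) :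
    ∃ x : X, IsPEl p x ∧ {a : Δ | x • a ≠ a}.ncard = p := by
  classical
  have hp : p.Prime := Fact.out
  choose M hM using hall
  have hsy : ∀ ε : Δ, ∃ Q : Sylow p X, ∃ h : (Q : Subgroup X) ≤ stabilizer X ε,
      ¬ ∀ a : Δ, a ∈ fixedPoints (Q : Subgroup X) Δ := fun ε => by
    obtain ⟨Q, hQ⟩ := exists_sylow_fix P hε₀ ε
    exact ⟨Q, hQ, moved_of_conj P Q hP⟩
  have hmove : ∀ v γ : Δ, γ ≠ v → ∃ k : SK (X := X) p v, k • γ ≠ γ := fun v γ h => by
    obtain ⟨Q, hQ, hQP⟩ := hsy v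
    exact sk_moves Q hQ hQP h
  have hmem : ∀ (ε : Δ) (g : X), IsPEl p g → g • ε = ε → g ∈ SK (X := X) p ε :=
    fun ε g he hg => mem_pe hg he
  -- no three points with the `p`-elements fixing two fixing the third
  have hB1 : ∀ α β γ : Δ, α ≠ β → γ ≠ α → γ ≠ β →
      ∃ g : X, IsPEl p g ∧ g • α = α ∧ g • β = β ∧ g • γ ≠ γ := by
    intro α β γ hαβ hγα hγβ
    by_contra hcon
    push Not at hcon
    let Z : Δ → Set Δ := fun v =>
      {δ | δ ≠ v ∧ ∀ g : X, IsPEl p g → g • v = v → g • δ = δ → g • γ = γ}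
    have hZ : ∀ v, γ ≠ v → 5 * (Z v).ncard + 1 ≤ Nat.card Δ := by
      intro v hv
      have key : ∀ A : Set Δ, Inv (⊤ : Subgroup (SK (X := X) p v)) A → A ⊆ ({v}ᶜ : Set Δ) →
          5 * (A ∩ Z v).ncard ≤ A.ncard := by
        intro A
        induction' hn : A.ncard using Nat.strong_induction_on with n ih generalizing A
        intro hA hsub
        rcases (A ∩ Z v).eq_empty_or_nonempty with h | ⟨δ, hδA, hδv, hδ⟩
        · simp [h]
        set K := SK (X := X) p v
        have hN := hM v δ hδv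
        set O := orbit K δ
        have hOA : O ⊆ A := orbit_subset' hA hδA
        have hsubO : O ∩ Z v ⊆ orbit (M v δ hδv) δ := by
          rintro _ ⟨⟨k, rfl⟩, -, hk⟩
          by_cases hkM : k ∈ M v δ hδv
          · exact ⟨⟨k, hkM⟩, rfl⟩
          exfalso
          have hL : (stabilizer K γ) = ⊤ := closure_two_eq_top hp2 (sk_gen v) hN hkM
            (fun g hge hg => hδ g hge.coe (sk_smul_self g) (hN.fix g hg hge))
            (fun g hge hg => hk g hge.coe (sk_smul_self g) (by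
              have h3 := hN.fix _ hg (by simpa using hge.conj k⁻¹)
              rw [mul_smul, mul_smul, inv_smul_eq_iff] at h3
              exact h3))
          obtain ⟨k', hk'⟩ := hmove v γ hv
          exact hk' (mem_stabilizer_iff.1 (hL ▸ mem_top k'))
        have horb : (orbit (M v δ hδv) δ).ncard = (stabilizer K δ).relIndex (M v δ hδv) := by
          rw [← index_stabilizer, relIndex]
          congr 1
        have hOc : O.ncard = (stabilizer K δ).relIndex (M v δ hδv) * (M v δ hδv).index := by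
          rw [relIndex_mul_index hN.le, index_stabilizer]
        have h1 : 5 * (O ∩ Z v).ncard ≤ O.ncard := by
          rw [hOc, ← horb]
          calc 5 * (O ∩ Z v).ncard ≤ 5 * (orbit (M v δ hδv) δ).ncard :=
                Nat.mul_le_mul_left 5 (Set.ncard_le_ncard hsubO)
            _ ≤ _ := by rw [mul_comm]; exact Nat.mul_le_mul_left _ hN.five
        have hlt : (A \ O).ncard < n := by
          rw [← hn]
          exact Set.ncard_lt_ncard ⟨Set.sdiff_subset, fun h => (h hδA).2 (mem_orbit_self δ)⟩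
        have h2 := ih _ hlt (A \ O) rfl (hA.sdiff (inv_orbit' δ)) (Set.sdiff_subset.trans hsub)
        have h3 : (A ∩ Z v).ncard ≤ (O ∩ Z v).ncard + ((A \ O) ∩ Z v).ncard := by
          refine (Set.ncard_le_ncard ?_ (Set.toFinite _)).trans (Set.ncard_union_le _ _)
          intro a ha
          by_cases hao : a ∈ O
          · exact Or.inl ⟨hao, ha.2⟩
          · exact Or.inr ⟨⟨ha.1, hao⟩, ha.2⟩
        have h4 : (A \ O).ncard + O.ncard = n := hn ▸ Set.ncard_sdiff_add_ncard_of_subset hOA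
        omega
      have h := key _ (inv_compl v) subset_rfl
      rw [Set.inter_eq_right.2 (fun δ hδ => hδ.1), Set.ncard_compl, Set.ncard_singleton] at h
      have : 0 < Nat.card Δ := by
        haveI : Nonempty Δ := ⟨v⟩
        exact Nat.card_pos
      omega
    have hn3 : 3 ≤ Nat.card Δ := by
      have h := Set.ncard_le_ncard (Set.subset_univ ({α, β, γ} : Set Δ))
      rw [Set.ncard_univ, Set.ncard_insert_of_notMem (by simp [hαβ, hγα.symm]),
        Set.ncard_pair hγβ.symm] at h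
      exact h
    obtain ⟨δ, -, hδ⟩ : ∃ δ ∈ (Set.univ : Set Δ), δ ∉ Z α ∪ Z β ∪ {α, β} := by
      refine Set.exists_mem_notMem_of_ncard_lt_ncard ?_ (Set.toFinite _)
      rw [Set.ncard_univ]
      have h1 := Set.ncard_union_le (Z α ∪ Z β) ({α, β} : Set Δ)
      have h2 := Set.ncard_union_le (Z α) (Z β)
      have h3 := Set.ncard_pair hαβ
      have h4 := hZ α hγα
      have h5 := hZ β hγβ
      omega
    simp only [Set.mem_union, Set.mem_insert_iff, Set.mem_singleton_iff, not_or] at hδ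
    obtain ⟨⟨hδα, hδβ⟩, hδα', hδβ'⟩ := hδ
    have hδγ : γ ≠ δ := by
      rintro rfl
      exact hδα ⟨hγα, fun g _ _ h => h⟩
    set K := SK (X := X) p δ
    obtain ⟨Q, hQ, hQP⟩ := hsy δ
    set M₀ := M δ γ hδγ
    have h₀ : NatSys p M₀ γ := hM δ γ hδγ
    set i₀ : K ⧸ M₀ := ((1 : K) : K ⧸ M₀)
    let y : Fin 2 → Δ := ![α, β]
    have hy : ∀ j, y j ≠ δ := fun j => by fin_cases j <;> exact Ne.symm (by assumption)
    have hyZ : ∀ j, δ ∉ Z (y j) := fun j => by fin_cases j <;> assumption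
    let Mv : Fin 2 → Subgroup K := fun j => M δ (y j) (hy j)
    have hpt : ∀ j, ∃ i : K ⧸ M₀, i ≠ i₀ ∧
        ((toPermHom K (K ⧸ Mv j)).ker = (toPermHom K (K ⧸ M₀)).ker → Mv j = stabilizer K i) := by
      intro j
      by_cases hk : (toPermHom K (K ⧸ Mv j)).ker = (toPermHom K (K ⧸ M₀)).ker
      · obtain ⟨i, hi⟩ := exists_point_of_ker_eq (sk_gen δ) (skSylow Q hQ) (hM δ (y j) (hy j)) h₀ hk
        refine ⟨i, fun hii => hyZ j ⟨(hy j).symm, fun g hge hgv hgd => ?_⟩, fun _ => hi⟩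
        refine h₀.fix ⟨g, hmem δ g hge hgd⟩ ?_ (hge.mk _)
        have hgM : (⟨g, hmem δ g hge hgd⟩ : K) ∈ Mv j := (hM δ (y j) (hy j)).le hgv
        rw [show Mv j = stabilizer K i from hi, hii] at hgM
        exact mem_of_fix_base hgM
      · obtain ⟨k, hk'⟩ : ∃ k : K, k ∉ M₀ := by
          by_contra hh
          push Not at hh
          exact h₀.coatom.1 (eq_top_iff.2 fun x _ => hh x)
        refine ⟨(k : K ⧸ M₀), fun e => hk' ?_, fun h => absurd h hk⟩
        rw [QuotientGroup.eq, mul_one, inv_mem_iff] at e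
        exact e
    choose i hi0 hi using hpt
    haveI := Fintype.ofFinite (K ⧸ M₀)
    have hn : p + 2 ≤ Nat.card (K ⧸ M₀) := by
      rw [← index_eq_card]; have := h₀.five; have := h₀.three; omega
    obtain ⟨b, -, hb⟩ := Finset.exists_mem_notMem_of_card_lt_card
      (t := (Finset.univ : Finset (K ⧸ M₀))) (s := {i 0, i 1, i₀}) (by
        rw [Finset.card_univ, ← Nat.card_eq_fintype_card]
        have := Finset.card_le_three (a := i 0) (b := i 1) (c := i₀)
        have := hp.two_le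
        omega)
    simp only [Finset.mem_insert, Finset.mem_singleton, not_or] at hb
    obtain ⟨σ, hσ, hσp, hσfix, hσb, -, -⟩ := exists_cycle hp2 hn {i 0, i 1} Finset.card_le_two
      (Ne.symm hb.2.2) (by simp [(hi0 0).symm, (hi0 1).symm]) (by simp [hb.1, hb.2.1])
    obtain ⟨g, hge, hgσ, hgfix⟩ := exists_lift Finset.univ Mv y h₀
      (fun j _ => hM δ (y j) (hy j)) (h₀.range_eq ▸ hσ) hσp fun j _ hk g hg => by
        rw [hi j hk, mem_stabilizer_iff]
        refine (Equiv.congr_fun hg (i j)).trans (hσfix _ ?_)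
        fin_cases j <;> simp
    have hγ := hcon (g : X) hge.coe (hgfix 0 (Finset.mem_univ _)) (hgfix 1 (Finset.mem_univ _))
    have : g ∈ M₀ := h₀.le hγ
    have h6 := fix_base_of_mem this
    exact hb.2.2 (hσb.symm.trans ((Equiv.congr_fun hgσ i₀).symm.trans h6))
  -- the element
  haveI : Nonempty Δ := ⟨ε₀⟩
  obtain ⟨y₀, hy₀⟩ : ∃ y : Δ, y ≠ ε₀ := by
    by_contra h
    push Not at h
    exact hP fun a => by rw [h a]; exact fun g => hε₀ g.2
  set K := SK (X := X) p ε₀
  set M₀ := M ε₀ y₀ hy₀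
  have h₀ : NatSys p M₀ y₀ := hM ε₀ y₀ hy₀
  haveI := Fintype.ofFinite (K ⧸ M₀)
  haveI := Fintype.ofFinite Δ
  have hn : p + 2 ≤ Nat.card (K ⧸ M₀) := by
    rw [← index_eq_card]; have := h₀.five; have := h₀.three; omega
  obtain ⟨c, -, hcyc, hcs⟩ := h₀.exists_cycle_mem (sk_gen ε₀) (skSylow P hε₀)
  set σ := toPermHom K (K ⧸ M₀) c
  have hσp : σ ^ p = 1 :=
    (congrArg (σ ^ ·) (hcyc.orderOf.trans hcs)).symm.trans (pow_orderOf_eq_one σ)
  -- points of the same kernel
  let ι := {v : Δ // v ≠ ε₀}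
  let Same : ι → Prop := fun v =>
    (toPermHom K (K ⧸ M ε₀ v.1 v.2)).ker = (toPermHom K (K ⧸ M₀)).ker
  have hpt : ∀ v : {v : ι // Same v}, ∃ i : K ⧸ M₀, M ε₀ v.1.1 v.1.2 = stabilizer K i := fun v =>
    exists_point_of_ker_eq (sk_gen ε₀) (skSylow P hε₀) (hM ε₀ v.1.1 v.1.2) h₀ v.2
  choose i hi using hpt
  have hinj : Function.Injective i := by
    intro v w hvw
    by_contra hne
    have hne' : v.1.1 ≠ w.1.1 := fun e => hne (Subtype.ext (Subtype.ext e))
    obtain ⟨g, hge, hgε, hgv, hgw⟩ := hB1 ε₀ v.1.1 w.1.1 v.1.2.symm w.1.2 hne'.symm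
    have hgM : (⟨g, hmem ε₀ g hge hgε⟩ : K) ∈ M ε₀ v.1.1 v.1.2 :=
      (hM ε₀ v.1.1 v.1.2).le hgv
    rw [hi v, hvw, ← hi w] at hgM
    exact hgw ((hM ε₀ w.1.1 w.1.2).fix _ hgM (hge.mk _))
  obtain ⟨g, hge, hgσ, hgfix⟩ := exists_lift
    (Finset.univ.filter fun v : ι => ∀ h : Same v, σ (i ⟨v, h⟩) = i ⟨v, h⟩)
    (fun v => M ε₀ v.1 v.2) (fun v => v.1) h₀ (fun v _ => hM ε₀ v.1 v.2) ⟨c, rfl⟩ hσp
    fun v hv hk g hg => by
      rw [hi ⟨v, hk⟩, mem_stabilizer_iff]
      exact (Equiv.congr_fun hg (i ⟨v, hk⟩)).trans ((Finset.mem_filter.1 hv).2 hk)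
  refine ⟨(g : X), hge.coe, le_antisymm ?_ ?_⟩
  · have hle : {a : Δ | (g : X) • a ≠ a} ⊆
        (fun v : {v : ι // Same v} => v.1.1) '' (i ⁻¹' (σ.support : Set (K ⧸ M₀))) := by
      intro a ha
      have hae : a ≠ ε₀ := fun e => ha (by rw [e]; exact sk_smul_self g)
      by_contra hni
      refine ha (hgfix ⟨a, hae⟩ (Finset.mem_filter.2 ⟨Finset.mem_univ _, fun hs => ?_⟩))
      by_contra hmv
      exact hni ⟨⟨⟨a, hae⟩, hs⟩, Perm.mem_support.2 hmv, rfl⟩
    refine (Set.ncard_le_ncard hle (Set.toFinite _)).trans ((Set.ncard_image_le (Set.toFinite _)).trans ?_)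
    exact (Set.ncard_le_ncard_of_injOn i (fun v hv => hv) hinj.injOn (Set.toFinite _)).trans
      (le_of_eq ((Set.ncard_coe_finset _).trans hcs))
  · have hne : {a : Δ | (g : X) • a ≠ a}.Nonempty := by
      by_contra hh
      simp only [Set.not_nonempty_iff_eq_empty, Set.eq_empty_iff_forall_notMem,
        Set.mem_ofPred_eq, not_not] at hh
      have h1 : σ = 1 := by
        refine hgσ.symm.trans (Equiv.ext fun q => ?_)
        obtain ⟨k, rfl⟩ := QuotientGroup.mk_surjective q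
        show g • (k : K ⧸ M₀) = k
        have h2 : k⁻¹ * g * k ∈ M₀ := h₀.le (by
          rw [mem_stabilizer_iff, mul_smul, mul_smul,
            show g • k • y₀ = k • y₀ from hh _, inv_smul_smul])
        rw [Quotient.smul_coe, smul_eq_mul, QuotientGroup.eq]
        simpa [mul_assoc] using inv_mem h2
      exact hcyc.ne_one h1
    have hz : IsPGroup p (zpowers (g : X)) := hge.coe.isPGroup
    have hmod := dvd_ncard_sub_fxs hz (A := (Set.univ : Set Δ)) fun _ _ _ _ => trivial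
    have hfix : fixedPoints (zpowers (g : X)) Δ = {a : Δ | (g : X) • a ≠ a}ᶜ := by
      ext a
      rw [mem_fixedPoints_sub, Set.mem_compl_iff, Set.mem_ofPred_eq, not_not]
      refine ⟨fun h => h _ (mem_zpowers _), fun h x hx => ?_⟩
      exact mem_stabilizer_iff.1 ((zpowers_le.2 (mem_stabilizer_iff.2 h)) hx)
    rw [fxs, hfix, Set.univ_inter, Set.ncard_univ, Set.ncard_compl] at hmod
    have hpos := (Set.ncard_pos (Set.toFinite _)).2 hne
    have hle2 := Set.ncard_le_ncard (Set.subset_univ {a : Δ | (g : X) • a ≠ a})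
    rw [Set.ncard_univ] at hle2
    rw [Nat.sub_sub_self hle2] at hmod
    exact Nat.le_of_dvd hpos hmod

end Cfsg.Agent.SylowOrbits
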