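import Cfsg.Agent.Lib.SylowOrbits.System

/-!
Two systems of small defect share a Sylow subgroup.
-/

set_option autoImplicit false
set_option linter.unusedSectionVars false
set_option linter.style.haveILetI false

namespace Cfsg.Agent.SylowOrbits

open MulAction Subgroup
open scoped Pointwise

universe u

variable {p : ℕ} [Fact p.Prime] {K : Type u} [Group K] [Finite K] {N : ℕ}

theorem stabilizer_base (M : Subgroup K) : stabilizer K ((1 : K) : K ⧸ M) = M :=
  Subgroup.ext fun _ => ⟨mem_of_fix_base, fix_base_of_mem⟩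

/-- Number of Sylow subgroups inside `M`, as fixers of the base coset. -/
theorem sylow_le_iff_fix (Q : Sylow p K) (M : Subgroup K) :
    ((1 : K) : K ⧸ M) ∈ fixedPoints (Q : Subgroup K) (K ⧸ M) ↔ (Q : Subgroup K) ≤ M := by
  exact ⟨fun h g hg => mem_of_fix_base (h ⟨g, hg⟩), fun h g => fix_base_of_mem (h g.2)⟩

theorem exists_common_sylow_aux (hp5 : 5 ≤ p) (hIH : IH.{u} p N)
    (hgen : pe p (⊤ : Subgroup K) = ⊤) (P : Sylow p K) {My Mz : Subgroup K}
    (hMz : IsCoatom Mz) (hNz : Mz.index < N)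
    (hy : fxs (P : Subgroup K) (Set.univ : Set (K ⧸ My)) ≠ 0)
    (hz : dd p (P : Subgroup K) (Set.univ : Set (K ⧸ Mz)) ≤ ((p : ℤ) - 3) * p)
    (hge : {Q : Sylow p K | (Q : Subgroup K) ≤ Mz}.ncard ≤
      {Q : Sylow p K | (Q : Subgroup K) ≤ My}.ncard) :
    ∃ Q : Sylow p K, (Q : Subgroup K) ≤ My ∧ (Q : Subgroup K) ≤ Mz := by
  classical
  have hp : p.Prime := Fact.out
  by_contra hcon
  push Not at hcon
  obtain ⟨⟨Q₀, hQ₀⟩, -⟩ := exists_sylow_le P hy
  set L := pe p My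
  have hQL : ∀ Q : Sylow p K, (Q : Subgroup K) ≤ My → (Q : Subgroup K) ≤ L :=
    fun Q h => le_pe Q.isPGroup' h
  set b : K ⧸ Mz := ((1 : K) : K ⧸ Mz)
  set P' : Sylow p L := Q₀.subtype (hQL Q₀ hQ₀)
  have hgenL : pe p (⊤ : Subgroup L) = ⊤ := pe_pe_eq_top _
  have hP' : ∀ A : Set (K ⧸ Mz), fxs (P' : Subgroup L) A = fxs (Q₀ : Subgroup K) A := by
    intro A
    rw [fxs, fxs]
    congr 2
    ext a
    rw [Sylow.coe_subtype, mem_fixedPoints_sub, mem_fixedPoints_sub]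
    exact ⟨fun h g hg => h ⟨g, hQL Q₀ hQ₀ hg⟩ hg, fun h g hg => h g hg⟩
  -- no fixed point in the orbit of the base point
  have hnofix : ∀ l : L, l • b ∉ fixedPoints (Q₀ : Subgroup K) (K ⧸ Mz) := by
    intro l hl
    refine hcon ((l : K)⁻¹ • Q₀) ?_ ?_
    · exact Sylow.smul_le hQ₀ ⟨_, inv_mem (pe_le _ l.2)⟩
    · rw [← sylow_le_iff_fix, Sylow.coe_subgroup_smul, Subgroup.pointwise_smul_def]
      refine (smul_fixedPoints_conj _ _).2 ?_
      rw [inv_inv]
      exact hl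
  set R := orbit L b
  have hR0 : fxs (P' : Subgroup L) R = 0 := by
    rw [hP', fxs, Set.ncard_eq_zero (Set.toFinite _)]
    refine Set.eq_empty_iff_forall_notMem.2 ?_
    rintro _ ⟨⟨l, rfl⟩, h⟩
    exact hnofix l h
  set F : Set (K ⧸ Mz) := {a | ∀ l : L, l • a = a}
  have hF : Inv (⊤ : Subgroup L) F := fun g _ a ha => by rw [ha g]; exact ha
  have hRF : Disjoint R F := Set.disjoint_left.2 fun a haR haF => by
    obtain ⟨l, rfl⟩ := haR
    exact hnofix l (mem_fixedPoints_sub.2 fun g hg => haF ⟨g, hQL Q₀ hQ₀ hg⟩)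
  have hrest : 0 ≤ dd p (P' : Subgroup L) ((Set.univ : Set (K ⧸ Mz)) \ (R ∪ F)) := by
    refine dd_nonneg_of_inv hIH hgenL P' (Inv.sdiff (fun _ _ _ _ => trivial) fun g hg a ha =>
      ha.imp (inv_orbit' b g hg a) (hF g hg a)) (fun a ha => ?_) ?_
    · by_contra h
      push Not at h
      exact ha.2 (Or.inr h)
    · refine lt_of_le_of_lt ((Set.ncard_le_ncard (Set.subset_univ _)).trans ?_) hNz
      rw [Set.ncard_univ, index_eq_card]
  have hsum := dd_sdiff (p := p) (P' : Subgroup L) (Set.subset_univ (R ∪ F))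
  rw [dd_union _ hRF, dd_of_subset_fixed (P := (P' : Subgroup L)) (A := F) (fun a ha g => ha g)] at hsum
  have huniv : dd p (P' : Subgroup L) (Set.univ : Set (K ⧸ Mz)) =
      dd p (P : Subgroup K) (Set.univ : Set (K ⧸ Mz)) := by
    rw [dd, dd, hP', fxs_conj Q₀ P fun _ _ _ => Set.mem_univ _]
  rw [huniv] at hsum
  obtain ⟨m, hm, hmd⟩ := dd_eq_mul P'.isPGroup' (A := R) fun g _ => inv_orbit' b g trivial
  rw [hR0] at hm hmd
  rw [hmd] at hsum
  have hRpos : 0 < R.ncard := (Set.ncard_pos (Set.toFinite _)).2 ⟨b, mem_orbit_self b⟩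
  have hm1 : 1 ≤ m := by
    rcases Nat.eq_zero_or_pos m with h | h
    · rw [h] at hm; omega
    · exact h
  have hF2 : 1 < F.ncard := by
    by_contra h
    have hFz : (F.ncard : ℤ) ≤ 1 := by omega
    have hmz : (1 : ℤ) ≤ m := by exact_mod_cast hm1
    have hpz : (5 : ℤ) ≤ p := by exact_mod_cast hp5
    push_cast at hsum
    nlinarith [mul_le_mul_of_nonneg_left hmz (show (0 : ℤ) ≤ p * (p - 1) by nlinarith),
      mul_le_mul_of_nonneg_left hFz (show (0 : ℤ) ≤ p by omega)]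
  obtain ⟨i, hi, j, hj, hij⟩ := (Set.one_lt_ncard (Set.toFinite _)).1 hF2
  -- the Sylow subgroups inside `My` are exactly those fixing `i`
  have hsub : {Q : Sylow p K | (Q : Subgroup K) ≤ My} ⊆
      {Q : Sylow p K | i ∈ fixedPoints (Q : Subgroup K) (K ⧸ Mz)} := fun Q hQ =>
    mem_fixedPoints_sub.2 fun g hg => hi ⟨g, hQL Q hQ hg⟩
  have hcount : {Q : Sylow p K | i ∈ fixedPoints (Q : Subgroup K) (K ⧸ Mz)}.ncard =
      {Q : Sylow p K | (Q : Subgroup K) ≤ Mz}.ncard := by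
    have h1 := card_sylow_fix P i
    have h2 := card_sylow_fix P b
    rw [← h2] at h1
    refine (Nat.eq_of_mul_eq_mul_left Nat.card_pos h1).trans (congrArg Set.ncard (Set.ext fun Q => ?_))
    exact sylow_le_iff_fix Q Mz
  have heq := Set.eq_of_subset_of_ncard_le hsub (hcount.le.trans hge) (Set.toFinite _)
  haveI : Nontrivial (K ⧸ Mz) := ⟨⟨i, j, hij⟩⟩
  haveI : IsPreprimitive K (K ⧸ Mz) :=
    (isCoatom_stabilizer_iff_preprimitive K b).1 (by rwa [stabilizer_base])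
  have hQi : (Q₀ : Subgroup K) ≤ stabilizer K i := fun g hg => hi ⟨g, hQL Q₀ hQ₀ hg⟩
  refine hij (eq_of_pe_stabilizer_fix Q₀ hQi (fun h => hnofix 1 (h _)) (β := j) ?_).symm
  intro g hg
  have key : pe p (stabilizer K i) ≤ stabilizer K j := by
    refine pe_le_iff.2 fun x hx hxe => ?_
    obtain ⟨S, hS⟩ := exists_sylow_mem (K := stabilizer K i) (hxe.mk hx)
    obtain ⟨t, rfl⟩ := MulAction.exists_smul_eq (stabilizer K i) (Q₀.subtype hQi) S
    rw [Sylow.smul_subtype hQi t] at hS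
    have hfix : ((t : K) • Q₀ : Sylow p K) ∈
        {Q : Sylow p K | i ∈ fixedPoints (Q : Subgroup K) (K ⧸ Mz)} :=
      mem_fixedPoints_sub.2 fun y hy => Sylow.smul_le hQi t hy
    rw [← heq] at hfix
    exact hj ⟨x, hQL _ hfix hS⟩
  exact key hg

theorem exists_common_sylow (hp5 : 5 ≤ p) (hIH : IH.{u} p N)
    (hgen : pe p (⊤ : Subgroup K) = ⊤) (P : Sylow p K) {My Mz : Subgroup K}
    (hMy : IsCoatom My) (hMz : IsCoatom Mz) (hNy : My.index < N) (hNz : Mz.index < N)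
    (hy : dd p (P : Subgroup K) (Set.univ : Set (K ⧸ My)) ≤ ((p : ℤ) - 3) * p)
    (hz : dd p (P : Subgroup K) (Set.univ : Set (K ⧸ Mz)) ≤ ((p : ℤ) - 3) * p) :
    ∃ Q : Sylow p K, (Q : Subgroup K) ≤ My ∧ (Q : Subgroup K) ≤ Mz := by
  have hne : ∀ {M : Subgroup K},
      dd p (P : Subgroup K) (Set.univ : Set (K ⧸ M)) ≤ ((p : ℤ) - 3) * p →
      fxs (P : Subgroup K) (Set.univ : Set (K ⧸ M)) ≠ 0 := by
    intro M hM h0
    obtain ⟨m, hm, hmd⟩ := dd_eq_mul P.isPGroup' (A := (Set.univ : Set (K ⧸ M)))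
      fun _ _ _ _ => Set.mem_univ _
    rw [h0] at hm hmd
    rw [hmd] at hM
    have : 1 ≤ m := by
      rcases Nat.eq_zero_or_pos m with h | h
      · rw [h, Set.ncard_univ] at hm
        exact absurd hm (by simpa using (Nat.card_pos (α := K ⧸ M)).ne')
      · exact h
    have hmz : (1 : ℤ) ≤ m := by exact_mod_cast this
    have hpz : (5 : ℤ) ≤ p := by exact_mod_cast hp5
    push_cast at hM
    nlinarith [mul_le_mul_of_nonneg_left hmz (show (0 : ℤ) ≤ p * (p - 1) by nlinarith)]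
  rcases le_total {Q : Sylow p K | (Q : Subgroup K) ≤ Mz}.ncard
      {Q : Sylow p K | (Q : Subgroup K) ≤ My}.ncard with h | h
  · exact exists_common_sylow_aux hp5 hIH hgen P hMz hNz (hne hy) hz h
  · exact (exists_common_sylow_aux hp5 hIH hgen P hMy hNy (hne hz) hy h).imp
      fun _ h => ⟨h.2, h.1⟩

end Cfsg.Agent.SylowOrbits
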