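import Cfsg.Agent.Lib.SylowOrbits.Clique
import Cfsg.Agent.Lib.SylowOrbits.Cycle
import Cfsg.Agent.Lib.SylowOrbits.Tie

/-!
In a primitive group of small defect without elements moving exactly `p` points, small sets are
fixed by Sylow subgroups.
-/

set_option autoImplicit false
set_option linter.unusedSectionVars false
set_option linter.style.haveILetI false

namespace Cfsg.Agent.SylowOrbits

open MulAction Subgroup
open scoped Pointwise

universe u

variable {p : ℕ} [Fact p.Prime] {N : ℕ}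

/-- Sets of `j + 2` points are fixed by Sylow subgroups. -/
def Claim (p N j : ℕ) : Prop :=
  ∀ (X Δ : Type u) [Group X] [Finite X] [MulAction X Δ] [Finite Δ] [IsPreprimitive X Δ],
    Nat.card Δ ≤ N → ∀ P : Sylow p X, (¬ ∀ a : Δ, a ∈ fixedPoints (P : Subgroup X) Δ) →
      fxs (P : Subgroup X) (Set.univ : Set Δ) + 2 * p ≤ Nat.card Δ →
      dd p (P : Subgroup X) (Set.univ : Set Δ) ≤ (cc p + ((p : ℤ) - 2 - j)) * p →
      (∀ x : X, IsPEl p x → {a : Δ | x • a ≠ a}.ncard ≠ p) →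
      ∀ U : Set Δ, U.ncard = j + 2 → ∃ Q : Sylow p X, U ⊆ fixedPoints (Q : Subgroup X) Δ

variable {X Δ : Type u} [Group X] [Finite X] [MulAction X Δ] [Finite Δ]

theorem exists_fixed (hp2 : p ≠ 2) [IsPretransitive X Δ] (P : Sylow p X) {a : ℤ}
    (ha : a ≤ 2 * (p : ℤ) - 3) (hn : fxs (P : Subgroup X) (Set.univ : Set Δ) + 2 * p ≤ Nat.card Δ)
    (hd : dd p (P : Subgroup X) (Set.univ : Set Δ) ≤ a * p) (ε : Δ) :
    ∃ Q : Sylow p X, (Q : Subgroup X) ≤ stabilizer X ε := by
  have hp : p.Prime := Fact.out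
  by_cases h0 : fxs (P : Subgroup X) (Set.univ : Set Δ) = 0
  · exfalso
    rw [h0] at hn
    rw [dd, h0, Set.ncard_univ] at hd
    have h3 : (3 : ℤ) ≤ p := by have := hp.two_le; omega
    have hnz : 2 * (p : ℤ) ≤ Nat.card Δ := by omega
    push_cast at hd
    nlinarith [mul_le_mul_of_nonneg_left hnz (show (0 : ℤ) ≤ p - 1 by omega),
      mul_le_mul_of_nonneg_right ha (show (0 : ℤ) ≤ p by omega)]
  · obtain ⟨b, -, hb⟩ := Set.nonempty_of_ncard_ne_zero h0
    exact exists_sylow_fix P (fun g hg => mem_fixedPoints_sub.1 hb g hg) ε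

theorem conj_fix (P : Sylow p X) (g : X) {a : Δ} (h : a ∈ fixedPoints (P : Subgroup X) Δ) :
    g • a ∈ fixedPoints ((g • P : Sylow p X) : Subgroup X) Δ := by
  rw [Sylow.coe_subgroup_smul, Subgroup.pointwise_smul_def]
  refine (smul_fixedPoints_conj _ _).2 ?_
  rwa [inv_smul_smul]

theorem total_le {Q P : Sylow p X} {ε : Δ} (hQ : (Q : Subgroup X) ≤ stabilizer X ε) {a : ℤ}
    (hd : dd p (P : Subgroup X) (Set.univ : Set Δ) ≤ a * p) :
    dd p (Q : Subgroup X) ({ε}ᶜ : Set Δ) ≤ (a + 1) * p := by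
  rw [dd_univ_eq Q hQ, dd, fxs_conj Q P fun _ _ _ => Set.mem_univ _]
  rw [dd] at hd
  linarith

theorem dd_orbit_le (hIH : IH.{u} p N) [IsPreprimitive X Δ] (hN : Nat.card Δ ≤ N)
    (P : Sylow p X) {ε : Δ} (hε : (P : Subgroup X) ≤ stabilizer X ε)
    (hP : ¬ ∀ a : Δ, a ∈ fixedPoints (P : Subgroup X) Δ) {z : Δ} (hz : z ≠ ε) :
    dd p (P : Subgroup X) (orbit (SK (X := X) p ε) z) ≤ dd p (P : Subgroup X) ({ε}ᶜ : Set Δ) := by
  have h := dd_le_of_subset hIH (sk_gen ε) (skSylow P hε) (inv_compl ε) (inv_orbit' z)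
    (fun a ha => sk_moves P hε hP ha) (orbit_sub_compl hz) (card_lt_of_ne hN subset_rfl)
  rwa [dd_skSylow, dd_skSylow] at h

theorem claim_zero (hp2 : p ≠ 2) (hIH : IH.{u} p N) : Claim.{u} p N 0 := by
  intro X Δ _ _ _ _ _ hN P hP hn hd _ U hU
  have hp : p.Prime := Fact.out
  obtain ⟨y, z, hyz, rfl⟩ := Set.ncard_eq_two.1 hU
  have hc : 0 ≤ cc p ∧ cc p + 2 ≤ p := by
    rcases cc_cases hp hp2 with ⟨h, e⟩ | ⟨h, e⟩ <;> rw [e] <;> omega
  obtain ⟨Q, hQ⟩ := exists_fixed hp2 P (by omega) hn hd y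
  have hQP := moved_of_conj P Q hP
  set K := SK (X := X) p y
  set R := orbit K z
  by_cases hf : fxs (Q : Subgroup X) R = 0
  · exfalso
    have hRle := dd_orbit_le hIH hN Q hQ hQP hyz.symm
    have htot := total_le hQ hd
    obtain ⟨m, hm, hmd⟩ := dd_eq_mul Q.isPGroup' (A := R)
      fun g hg => inv_orbit' z (⟨g, sylow_le_sk Q hQ hg⟩ : K) trivial
    rw [hf] at hm hmd
    have hR0 : 0 < R.ncard := (Set.ncard_pos (Set.toFinite _)).2 ⟨z, mem_orbit_self z⟩
    have hm1 : 1 ≤ m := by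
      rcases Nat.eq_zero_or_pos m with h | h
      · rw [h] at hm; omega
      · exact h
    have hmz : (1 : ℤ) ≤ m := by exact_mod_cast hm1
    have hp0 : (0 : ℤ) ≤ p := Int.natCast_nonneg _
    have hval : dd p (Q : Subgroup X) R = p * (((p : ℤ) - 1) * m) := by
      rw [hmd]; simp
    have hmle : m = 1 := by
      by_contra h
      have h2 : (2 : ℤ) ≤ m := by omega
      have h4 : 2 ≤ p := hp.two_le
      rw [hval] at hRle
      nlinarith [mul_le_mul_of_nonneg_left h2 (show (0 : ℤ) ≤ p * (p - 1) by nlinarith)]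
    rw [hmle] at hm hval
    push_cast at hval
    have hcard : R.ncard = p := by omega
    have hmax : IsCoatom (stabilizer K z) := by
      have hidx : (stabilizer K z).index = p := by rw [index_stabilizer]; exact hcard
      refine ⟨fun h => hp.ne_one (by rw [← hidx, h, index_top]), fun M hM => ?_⟩
      rcases (Nat.dvd_prime hp).1 (hidx ▸ index_dvd_of_le hM.le) with h | h
      · exact index_eq_one.1 h
      · exfalso
        have h1 := relIndex_mul_index hM.le
        rw [h, hidx] at h1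
        have h2 : (stabilizer K z).relIndex M = 1 := Nat.eq_of_mul_eq_mul_right hp.pos (by omega)
        exact not_le_of_gt hM (relIndex_eq_one.1 h2)
    have hlt : cc p * p < dd p (Q : Subgroup X) R := by
      rw [hval]; nlinarith [hp.two_le]
    have hE := clique hp2 hIH hN Q hQ hQP hyz.symm hmax hlt
      (by rw [hval]; nlinarith [hp.two_le])
      (by rw [hval]; nlinarith [hp.two_le]) (Or.inr hcard)
    have hc' := congrArg Set.ncard hE
    rw [hcard, Set.ncard_compl, Set.ncard_singleton] at hc'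
    have := hp.two_le
    omega
  · obtain ⟨_, ⟨k, rfl⟩, hk⟩ := Set.nonempty_of_ncard_ne_zero hf
    refine ⟨(k : X)⁻¹ • Q, ?_⟩
    rintro a (rfl | rfl)
    · have h := conj_fix Q (k : X)⁻¹ (a := a) (mem_fixedPoints_sub.2 fun g hg => hQ hg)
      rwa [inv_smul_eq_iff.2 (show a = (k : X) • a from (sk_smul_self k).symm)] at h
    · have h := conj_fix Q (k : X)⁻¹ (a := (k : X) • a) hk
      rwa [inv_smul_smul] at h

theorem claim_succ (hp2 : p ≠ 2) (hIH : IH.{u} p N) {j : ℕ} (hj : j + 3 ≤ p)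
    (hC : Claim.{u} p N j) : Claim.{u} p N (j + 1) := by
  intro X Δ _ _ _ _ _ hN P hP hn hd hnomove U hU
  classical
  have hp : p.Prime := Fact.out
  set c := cc p
  set i : ℤ := (p : ℤ) - 3 - j with hi
  have hd' : dd p (P : Subgroup X) (Set.univ : Set Δ) ≤ (c + i) * p := by
    refine hd.trans (le_of_eq ?_); rw [hi]; push_cast; ring
  have hc : 0 ≤ c ∧ c + 2 ≤ p ∧ i ≤ c + 1 ∧ 0 ≤ i ∧ c + i + 2 ≤ 2 * (p : ℤ) - 3 ∧
      c + i + 1 < 2 * (p : ℤ) - 4 := by
    rcases cc_cases hp hp2 with ⟨h, e⟩ | ⟨h, e⟩ <;> simp only [c, e, hi] <;> omega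
  have hp0 : (0 : ℤ) < p := by exact_mod_cast hp.pos
  obtain ⟨u, hu⟩ := Set.nonempty_of_ncard_ne_zero (s := U) (by omega)
  -- a point with a non-natural orbit
  obtain ⟨ε, y₁, hy₁, hnat⟩ : ∃ ε y : Δ, ∃ _ : y ≠ ε,
      ¬ ∃ M : Subgroup (SK (X := X) p ε), NatSys p M y := by
    by_contra h
    push Not at h
    obtain ⟨Q, hQ⟩ := exists_fixed hp2 P (by omega) hn hd' u
    obtain ⟨x, hxe, hx⟩ :=
      exists_moved_eq_p hp2 Q hQ (moved_of_conj P Q hP) fun ε y hy => h ε y hy
    exact hnomove x hxe hx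
  obtain ⟨Q₀, hQ₀⟩ := exists_fixed hp2 P (by omega) hn hd' ε
  have hQP := moved_of_conj P Q₀ hP
  set K := SK (X := X) p ε
  set P' := skSylow Q₀ hQ₀
  set T := dd p (Q₀ : Subgroup X) ({ε}ᶜ : Set Δ)
  have hT : T ≤ (c + i + 1) * p := total_le hQ₀ hd'
  have hT2 : T ≤ 2 * (c + 1) * p := hT.trans (mul_le_mul_of_nonneg_right (by omega) hp0.le)
  obtain ⟨g, hg⟩ := exists_smul_eq X u ε
  set V := g • U
  have hεV : ε ∈ V := ⟨u, hu, hg⟩
  suffices ∃ Q : Sylow p X, V ⊆ fixedPoints (Q : Subgroup X) Δ by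
    obtain ⟨Q, hQ⟩ := this
    refine ⟨g⁻¹ • Q, fun a ha => ?_⟩
    have := conj_fix Q g⁻¹ (hQ (Set.smul_mem_smul_set ha))
    rwa [inv_smul_smul] at this
  have hsys : ∀ z, z ≠ ε → ∃ M : Subgroup K, IsCoatom M ∧ stabilizer K z ≤ M ∧ M.index < N ∧
      0 ≤ dd p (P' : Subgroup K) (Set.univ : Set (K ⧸ M)) ∧
      dd p (Q₀ : Subgroup X) (orbit K z) =
        ((stabilizer K z).relIndex M : ℤ) * dd p (P' : Subgroup K) (Set.univ : Set (K ⧸ M)) ∧
      (fxs (P' : Subgroup K) (Set.univ : Set (K ⧸ M)) ≠ 0 → ∀ g ∈ M, IsPEl p g → g • z = z) := by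
    intro z hz
    have h := dd_orbit_le hIH hN Q₀ hQ₀ hQP hz
    have hlt : dd p (P' : Subgroup K) (orbit K z) < (2 * (p : ℤ) - 1) * p := by
      rw [dd_skSylow]
      calc dd p (Q₀ : Subgroup X) (orbit K z) ≤ (c + i + 1) * p := h.trans hT
        _ < (2 * (p : ℤ) - 1) * p := mul_lt_mul_of_pos_right (by omega) hp0
    have h2 := exists_system hIH (sk_gen ε) P' (sk_moves Q₀ hQ₀ hQP hz)
      (card_lt_of_ne hN (orbit_sub_compl hz)) hlt
    rwa [dd_skSylow] at h2
  by_cases hA : ∃ z, z ≠ ε ∧ IsCoatom (stabilizer K z) ∧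
      c * p < dd p (Q₀ : Subgroup X) (orbit K z) ∧ T < 2 * dd p (Q₀ : Subgroup X) (orbit K z)
  · -- recursion to the stabiliser
    obtain ⟨z, hz, hmax, hbig, hhalf⟩ := hA
    have hle : dd p (Q₀ : Subgroup X) (orbit K z) ≤ T := dd_orbit_le hIH hN Q₀ hQ₀ hQP hz
    have hinvT : Inv (Q₀ : Subgroup X) ({ε}ᶜ : Set Δ) := fun q hq a ha =>
      inv_compl ε ⟨q, sylow_le_sk Q₀ hQ₀ hq⟩ trivial a ha
    obtain ⟨w, hw⟩ := dd_dvd Q₀.isPGroup' hinvT
    obtain ⟨w', hw'⟩ := dd_dvd Q₀.isPGroup' (A := orbit K z)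
      fun q hq a ha => inv_orbit' z ⟨q, sylow_le_sk Q₀ hQ₀ hq⟩ trivial a ha
    have hrest : T - dd p (Q₀ : Subgroup X) (orbit K z) ≤ c * p := by
      have h1 : (p : ℤ) * (w - w') < p * (c + 1) := by
        simp only [T] at hT2 hhalf ⊢
        rw [hw] at hT2 hhalf
        rw [hw'] at hhalf
        linarith
      have h2 := Int.lt_add_one_iff.1 (lt_of_mul_lt_mul_left h1 hp0.le)
      have h3 := mul_le_mul_of_nonneg_left h2 hp0.le
      simp only [T]
      rw [hw, hw']
      linarith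
    have hsmall : dd p (Q₀ : Subgroup X) (orbit K z) < (2 * (p : ℤ) - 4) * p :=
      lt_of_le_of_lt (hle.trans hT) (mul_lt_mul_of_pos_right (by omega) hp0)
    have hE := clique hp2 hIH hN Q₀ hQ₀ hQP hz hmax hbig hhalf hrest (Or.inl hsmall)
    set A := orbit K z
    haveI : Nontrivial A := by
      obtain ⟨k, hk⟩ := sk_moves Q₀ hQ₀ hQP hz
      exact ⟨⟨⟨z, mem_orbit_self z⟩, ⟨k • z, mem_orbit z k⟩,
        fun e => hk (congrArg Subtype.val e).symm⟩⟩
    haveI : IsPreprimitive K A := (isCoatom_stabilizer_iff_preprimitive K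
      (⟨z, mem_orbit_self z⟩ : A)).1 (by
        convert hmax using 1
        ext k
        exact ⟨fun h => congrArg Subtype.val h, fun h => Subtype.ext h⟩)
    have hcardA : Nat.card A = Nat.card Δ - 1 := by
      rw [Nat.card_coe_set_eq, hE, Set.ncard_compl, Set.ncard_singleton]
    have hfA : fxs (P' : Subgroup K) (Set.univ : Set A) + 1 =
        fxs (P : Subgroup X) (Set.univ : Set Δ) := by
      rw [fxs_conj P Q₀ fun _ _ _ => Set.mem_univ _,
        show (Set.univ : Set Δ) = {ε} ∪ A by rw [hE, Set.union_compl_self],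
        fxs_union _ (by rw [hE]; exact disjoint_compl_right),
        ← fxs_skSylow Q₀ hQ₀ (orbit K z)]
      have h1 : fxs (Q₀ : Subgroup X) ({ε} : Set Δ) = 1 := by
        rw [← Set.ncard_singleton ε]
        exact fxs_eq_ncard_iff.2 (by rintro a rfl g; exact hQ₀ g.2)
      have h2 := dd_orbit_univ (p := p) (P' : Subgroup K) z
      rw [dd, dd, Set.ncard_univ, Nat.card_coe_set_eq, sub_right_inj] at h2
      have h2' := mul_left_cancel₀ (show 2 * (p : ℤ) - 1 ≠ 0 by omega) h2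
      rw [h1, Nat.add_comm]
      congr 1
      exact_mod_cast h2'
    have hfix : ∃ Q : Sylow p K, (Subtype.val ⁻¹' V : Set A) ⊆ fixedPoints (Q : Subgroup K) A := by
      refine hC K A (by omega) P' ?_ (by omega) ?_ ?_ _ ?_
      · intro h
        refine hQP fun a => ?_
        by_cases ha : a = ε
        · subst ha; exact fun q => hQ₀ q.2
        · have haA : a ∈ A := by rw [hE]; exact ha
          exact mem_fixedPoints_sub.2 fun q hq => congrArg Subtype.val
            (h ⟨a, haA⟩ ⟨⟨q, sylow_le_sk Q₀ hQ₀ hq⟩, hq⟩)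
      · rw [dd_orbit_univ, dd_skSylow]
        show dd p (Q₀ : Subgroup X) A ≤ _
        rw [hE]
        exact hT.trans (mul_le_mul_of_nonneg_right (by rw [hi]; omega) hp0.le)
      · intro x hx he
        refine hnomove (x : X) hx.coe (Eq.trans ?_ he)
        rw [← Set.ncard_image_of_injective {a : A | x • a ≠ a} Subtype.val_injective]
        congr 1
        ext a
        constructor
        · intro ha
          have haA : a ∈ A := by
            rw [hE]; rintro rfl; exact ha (sk_smul_self x)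
          exact ⟨⟨a, haA⟩, fun e => ha (congrArg Subtype.val e), rfl⟩
        · rintro ⟨b, hb, rfl⟩ e
          exact hb (Subtype.ext e)
      · rw [← Set.ncard_image_of_injective _ Subtype.val_injective,
          Subtype.image_preimage_coe]
        have hAV : A ∩ V = V \ {ε} := by
          rw [hE, Set.sdiff_eq, Set.inter_comm]
        rw [hAV, Set.ncard_sdiff_singleton_of_mem hεV,
          show V.ncard = U.ncard from Set.ncard_smul_set g U, hU]
        omega
    obtain ⟨Q, hQ⟩ := hfix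
    obtain ⟨k, rfl⟩ := MulAction.exists_smul_eq K P' Q
    refine ⟨(k : X) • Q₀, fun a ha => ?_⟩
    by_cases hae : a = ε
    · subst hae
      have := conj_fix Q₀ (k : X) (a := a) (mem_fixedPoints_sub.2 fun q hq => hQ₀ hq)
      rwa [show (k : X) • a = a from sk_smul_self k] at this
    · have haA : a ∈ A := by rw [hE]; exact hae
      have h1 := hQ (a := ⟨a, haA⟩) ha
      rw [Sylow.coe_subgroup_smul, Subgroup.pointwise_smul_def] at h1
      have h2 := (smul_fixedPoints_conj _ k).1 h1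
      have h3 : (k : X)⁻¹ • a ∈ fixedPoints (Q₀ : Subgroup X) Δ := mem_fixedPoints_sub.2
        fun q hq => congrArg Subtype.val (h2 ⟨⟨q, sylow_le_sk Q₀ hQ₀ hq⟩, hq⟩)
      have := conj_fix Q₀ (k : X) h3
      rwa [smul_inv_smul] at this
  · -- the tie
    push Not at hA
    have hsmallB : ∀ z, ∀ hz : z ≠ ε, ∀ M : Subgroup K, IsCoatom M → stabilizer K z ≤ M →
        0 ≤ dd p (P' : Subgroup K) (Set.univ : Set (K ⧸ M)) →
        dd p (Q₀ : Subgroup X) (orbit K z) =
          ((stabilizer K z).relIndex M : ℤ) * dd p (P' : Subgroup K) (Set.univ : Set (K ⧸ M)) →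
        dd p (P' : Subgroup K) (Set.univ : Set (K ⧸ M)) ≤ (c + 1) * p ∧
        (c * p < dd p (P' : Subgroup K) (Set.univ : Set (K ⧸ M)) →
          2 * dd p (P' : Subgroup K) (Set.univ : Set (K ⧸ M)) ≤ T) := by
      intro z hz M hM hle hB heq
      have hor : dd p (Q₀ : Subgroup X) (orbit K z) ≤ T := dd_orbit_le hIH hN Q₀ hQ₀ hQP hz
      set D := dd p (P' : Subgroup K) (Set.univ : Set (K ⧸ M))
      rcases Nat.lt_or_ge ((stabilizer K z).relIndex M) 2 with hb | hb
      · have hb1 : (stabilizer K z).relIndex M = 1 := by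
          have : (stabilizer K z).relIndex M ≠ 0 := Subgroup.FiniteIndex.index_ne_zero
            (H := (stabilizer K z).subgroupOf M)
          omega
        have hst : stabilizer K z = M := le_antisymm hle (relIndex_eq_one.1 hb1)
        rw [hb1, Nat.cast_one, one_mul] at heq
        have h1 := hA z hz (hst ▸ hM)
        rw [heq] at h1
        refine ⟨?_, h1⟩
        by_contra h
        have := h1 (lt_trans (mul_lt_mul_of_pos_right (by omega) hp0) (not_le.1 h))
        linarith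
      · have hb' : (2 : ℤ) ≤ ((stabilizer K z).relIndex M : ℤ) := by exact_mod_cast hb
        have h1 : 2 * D ≤ T := le_trans (mul_le_mul_of_nonneg_right hb' hB) (heq ▸ hor)
        exact ⟨by linarith, fun _ => h1⟩
    -- the non-natural orbit makes the bounds tight
    obtain ⟨M₁, hM₁, hle₁, hN₁, hB₁, heq₁, hfix₁⟩ := hsys y₁ hy₁
    obtain ⟨h1a, h1b⟩ := hsmallB y₁ hy₁ M₁ hM₁ hle₁ hB₁ heq₁
    have hbig₁ : c * p < dd p (P' : Subgroup K) (Set.univ : Set (K ⧸ M₁)) := not_le.1 fun h =>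
      hnat ⟨M₁, natSys_of_le hp2 hIH (sk_gen ε) P' hM₁ hle₁ hN₁ hfix₁ h⟩
    have h2 := h1b hbig₁
    obtain ⟨w, hw⟩ := dd_dvd P'.isPGroup' (A := (Set.univ : Set (K ⧸ M₁)))
      fun _ _ _ _ => Set.mem_univ _
    have htight : c + 1 ≤ i := by
      rw [hw] at hbig₁ h2
      have h3 : c < w := lt_of_mul_lt_mul_left (by linarith) hp0.le
      have h4 : (p : ℤ) * (2 * w) ≤ p * (c + i + 1) := by linarith
      have h5 := le_of_mul_le_mul_left h4 hp0
      omega
    rcases cc_cases hp hp2 with ⟨h3, he⟩ | ⟨h5, he⟩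
    · simp only [c, he, hi] at htight; omega
    have hj0 : j = 0 := by simp only [c, he, hi] at htight; omega
    have hsys2 : ∀ z, z ≠ ε → ∃ M : Subgroup K, IsCoatom M ∧ M.index < N ∧
        dd p (P' : Subgroup K) (Set.univ : Set (K ⧸ M)) ≤ ((p : ℤ) - 3) * p ∧
        ∀ Q : Sylow p K, (Q : Subgroup K) ≤ M → z ∈ fixedPoints (Q : Subgroup K) Δ := by
      intro z hz
      obtain ⟨M, hM, hle, hMN, hB, heq, hfix⟩ := hsys z hz
      have h := (hsmallB z hz M hM hle hB heq).1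
      simp only [c, he] at h
      refine ⟨M, hM, hMN, by linarith, fun Q hQ => mem_fixedPoints_sub.2 fun q hq =>
        hfix ?_ q (hQ hq) (IsPEl.of_mem_pgroup Q.isPGroup' hq)⟩
      rw [fxs_conj P' Q fun _ _ _ => Set.mem_univ _]
      refine Set.ncard_ne_zero_of_mem (a := ((1 : K) : K ⧸ M)) ⟨trivial, ?_⟩ (Set.toFinite _)
      exact (sylow_le_iff_fix Q M).2 hQ
    have hVc : (V \ {ε}).ncard = 2 := by
      rw [Set.ncard_sdiff_singleton_of_mem hεV,
        show V.ncard = U.ncard from Set.ncard_smul_set g U, hU, hj0]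
    obtain ⟨y, z, -, hVe⟩ := Set.ncard_eq_two.1 hVc
    have hy : y ≠ ε := ((hVe.symm ▸ Set.mem_insert y {z} : y ∈ V \ {ε})).2
    have hz : z ≠ ε :=
      ((hVe.symm ▸ Set.mem_insert_of_mem y rfl : z ∈ V \ {ε})).2
    obtain ⟨My, hMy, hNy, hdy, hfy⟩ := hsys2 y hy
    obtain ⟨Mz, hMz, hNz, hdz, hfz⟩ := hsys2 z hz
    obtain ⟨Q, hQy, hQz⟩ :=
      exists_common_sylow h5 hIH (sk_gen ε) P' hMy hMz hNy hNz hdy hdz
    obtain ⟨k, rfl⟩ := MulAction.exists_smul_eq K P' Q
    have key : ∀ a, a ≠ ε → a ∈ fixedPoints ((k • P' : Sylow p K) : Subgroup K) Δ →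
        a ∈ fixedPoints (((k : X) • Q₀ : Sylow p X) : Subgroup X) Δ := by
      intro a _ ha
      rw [Sylow.coe_subgroup_smul, Subgroup.pointwise_smul_def] at ha
      have h2 := (smul_fixedPoints_conj _ k).1 ha
      have h3 : (k : X)⁻¹ • a ∈ fixedPoints (Q₀ : Subgroup X) Δ := mem_fixedPoints_sub.2
        fun q hq => h2 ⟨⟨q, sylow_le_sk Q₀ hQ₀ hq⟩, hq⟩
      have := conj_fix Q₀ (k : X) h3
      rwa [smul_inv_smul] at this
    refine ⟨(k : X) • Q₀, fun a ha => ?_⟩
    by_cases hae : a = ε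
    · subst hae
      have := conj_fix Q₀ (k : X) (a := a) (mem_fixedPoints_sub.2 fun q hq => hQ₀ hq)
      rwa [show (k : X) • a = a from sk_smul_self k] at this
    · have : a ∈ V \ {ε} := ⟨ha, hae⟩
      rw [hVe] at this
      rcases this with rfl | rfl
      · exact key _ hae (hfy _ hQy)
      · exact key _ hae (hfz _ hQz)

theorem claim_all (hp2 : p ≠ 2) (hIH : IH.{u} p N) : ∀ j, j + 2 ≤ p → Claim.{u} p N j
  | 0, _ => claim_zero hp2 hIH
  | j + 1, h => claim_succ hp2 hIH (by omega) (claim_all hp2 hIH j (by omega))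

end Cfsg.Agent.SylowOrbits
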