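import Cfsg.Agent.Lib.Solvable.Coprime

/-!
The fixed points of a coprime `p`-group in a transitive set of a `p'`-group: their number divides
the degree.
-/

set_option autoImplicit false
set_option linter.unusedSectionVars false
set_option linter.style.haveILetI false

namespace Cfsg.Agent.SylowOrbits

open MulAction Subgroup
open scoped Pointwise

variable {G : Type*} [Group G] [Finite G]

theorem centralizes_imp_normalizes {A U : Subgroup G} (h : U ≤ centralizer (A : Set G)) :
    A ≤ normalizer (U : Set G) := by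
  intro a ha
  rw [mem_normalizer_iff]
  intro u
  constructor
  · intro hu
    rw [(mem_centralizer_iff.1 (h hu) a ha), mul_inv_cancel_right]
    exact hu
  · intro hu
    have := mem_centralizer_iff.1 (h hu) a⁻¹ (inv_mem ha)
    have e : u = a * u * a⁻¹ := by
      calc u = a⁻¹ * (a * u * a⁻¹) * a := by group
        _ = (a * u * a⁻¹) * a⁻¹ * a := by rw [this]
        _ = a * u * a⁻¹ := by group
    rwa [e]

/-- The centraliser part of an invariant Sylow subgroup is a Sylow subgroup of the centraliser. -/
theorem card_inf_centralizer {A M : Subgroup G} (hAM : A ≤ normalizer (M : Set G))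
    (hcop : (Nat.card A).Coprime (Nat.card M)) (hsolv : Group.IsSolvable A) {q : ℕ} [Fact q.Prime]
    (R : Sylow q M)
    (hR : A ≤ normalizer (((R : Subgroup M).map M.subtype : Subgroup G) : Set G)) :
    Nat.card ↥((R : Subgroup M).map M.subtype ⊓ centralizer (A : Set G)) =
      q ^ (Nat.card ↥(M ⊓ centralizer (A : Set G))).factorization q := by
  set C := M ⊓ centralizer (A : Set G)
  set R₀ := (R : Subgroup M).map M.subtype
  have hRC : R₀ ⊓ centralizer (A : Set G) ≤ C := inf_le_inf_right _ (map_subtype_le _)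
  obtain ⟨T⟩ := (inferInstance : Nonempty (Sylow q C))
  have hTle : (T : Subgroup C).map C.subtype ≤ C := map_subtype_le _
  obtain ⟨R', hTR, hR'⟩ := CoprimeAct.exists_invariant_sylow_ge hAM hcop (Or.inl hsolv)
    (hTle.trans inf_le_left) (T.isPGroup'.map _)
    (centralizes_imp_normalizes (hTle.trans inf_le_right))
  obtain ⟨c, hc, hcR⟩ := CoprimeAct.invariant_sylow_conj hAM hcop (Or.inl hsolv) R' R hR' hR
  have hle : ((T : Subgroup C).map C.subtype).map (MulAut.conj (c : G)).toMonoidHom ≤
      R₀ ⊓ centralizer (A : Set G) := by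
    rintro _ ⟨t, ht, rfl⟩
    refine ⟨?_, ?_⟩
    · obtain ⟨r, hr, rfl⟩ := hTR ht
      refine ⟨MulAut.conj c r, ?_, rfl⟩
      have e : (R : Subgroup M) = MulAut.conj c • (R' : Subgroup M) := by
        rw [← hcR]; exact Sylow.pointwise_smul_def
      rw [SetLike.mem_coe, e]
      exact Subgroup.smul_mem_pointwise_smul r _ _ hr
    · simp only [MulEquiv.coe_toMonoidHom, MulAut.conj_apply, SetLike.mem_coe]
      exact (centralizer (A : Set G)).mul_mem ((centralizer (A : Set G)).mul_mem hc (hTle ht).2)
        ((centralizer (A : Set G)).inv_mem hc)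
  have hT : Nat.card ((T : Subgroup C).map C.subtype) = q ^ (Nat.card C).factorization q := by
    rw [card_map_of_injective C.subtype_injective]
    exact T.card_eq_multiplicity
  have h1 := Nat.le_of_dvd Nat.card_pos (card_dvd_of_le hle)
  rw [card_map_of_injective (MulAut.conj (c : G)).injective, hT] at h1
  obtain ⟨n, hn⟩ := IsPGroup.iff_card.1 ((R.isPGroup'.map M.subtype).to_le
    (inf_le_left : R₀ ⊓ centralizer (A : Set G) ≤ R₀))
  have h2 : q ^ n ∣ Nat.card C := hn ▸ card_dvd_of_le hRC
  have h3 := ((Fact.out : q.Prime).pow_dvd_iff_le_factorization Nat.card_pos.ne').1 h2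
  rw [hn]
  exact le_antisymm (Nat.pow_le_pow_right (Fact.out : q.Prime).pos h3) (hn ▸ h1)

variable {E : Type*} [MulAction G E] [Finite E]

/-- If `N` is a transitive `p'`-group normalised by the `p`-group `A`, which fixes a point, then
the number of fixed points of `A` divides the degree. -/
theorem ncard_fixed_dvd {p : ℕ} [Fact p.Prime] {A N : Subgroup G}
    (hA : IsPGroup p A) (hN : ¬ p ∣ Nat.card N) (hAN : A ≤ normalizer (N : Set G))
    (htr : ∀ x y : E, ∃ k ∈ N, k • x = y) {x : E} (hx : x ∈ fixedPoints A E) :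
    (fixedPoints A E).ncard ∣ Nat.card E := by
  classical
  obtain ⟨m, hm⟩ := IsPGroup.iff_card.1 hA
  have hcop : (Nat.card A).Coprime (Nat.card N) := by
    rw [hm]
    exact Nat.Coprime.pow_left m (((Fact.out : p.Prime).coprime_iff_not_dvd).2 hN)
  haveI : Group.IsNilpotent A := hA.isNilpotent
  have hsolv : Group.IsSolvable A := inferInstance
  have hxA : ∀ a ∈ A, a • x = x := fun a ha => hx ⟨a, ha⟩
  obtain ⟨-, hconj⟩ := SchurZ.glauberman hAN hcop (Or.inl hsolv) (Set.univ : Set E)
    ⟨x, trivial⟩ (fun _ _ _ _ => trivial) (fun _ _ _ _ => trivial) (fun a _ b _ => htr a b)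
  set C := N ⊓ centralizer (A : Set G)
  have horbC : orbit C x = fixedPoints A E := by
    ext y
    constructor
    · rintro ⟨c, rfl⟩ a
      show (a : G) • (c : G) • x = (c : G) • x
      rw [← mul_smul, mem_centralizer_iff.1 c.2.2 a a.2, mul_smul, hxA a a.2]
    · intro hy
      obtain ⟨c, hc, rfl⟩ := hconj x trivial y trivial hxA fun a ha => hy ⟨a, ha⟩
      exact ⟨⟨c, hc⟩, rfl⟩
  have horbN : orbit N x = Set.univ := Set.eq_univ_of_forall fun y => by
    obtain ⟨k, hk, rfl⟩ := htr x y
    exact ⟨⟨k, hk⟩, rfl⟩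
  set Nx := N ⊓ stabilizer G x
  set Cx := Nx ⊓ centralizer (A : Set G)
  have hi : ∀ L : Subgroup G, (orbit L x).ncard * Nat.card ↥(L ⊓ stabilizer G x) = Nat.card L := by
    intro L
    have e : stabilizer L x = (L ⊓ stabilizer G x).subgroupOf L := by
      ext l; simp [mem_subgroupOf, Subgroup.smul_def]
    rw [← index_stabilizer, e, ← card_mul_index ((L ⊓ stabilizer G x).subgroupOf L), mul_comm,
      Nat.card_congr (subgroupOfEquivOfLe inf_le_left).toEquiv]
  have hC := hi C
  have hN' := hi N
  rw [horbC, show C ⊓ stabilizer G x = Cx from inf_right_comm _ _ _] at hC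
  rw [horbN, Set.ncard_univ] at hN'
  have hNxA : A ≤ normalizer (Nx : Set G) := by
    intro a ha
    rw [mem_normalizer_iff]
    intro g
    have h1 := mem_normalizer_iff.1 (hAN ha) g
    simp only [Nx, mem_inf, mem_stabilizer_iff, mul_smul, ← h1]
    rw [show a⁻¹ • x = x from hxA _ (inv_mem ha), smul_eq_iff_eq_inv_smul (g := a),
      show a⁻¹ • x = x from hxA _ (inv_mem ha)]
  replace hN' : Nat.card E * Nat.card Nx = Nat.card N := hN'
  have key : ∀ q : ℕ, q.Prime → (Nat.card C).factorization q + (Nat.card Nx).factorization q ≤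
      (Nat.card N).factorization q + (Nat.card Cx).factorization q := by
    intro q hq
    haveI := Fact.mk hq
    have hcop' := hcop.coprime_dvd_right (card_dvd_of_le (inf_le_left : Nx ≤ N))
    obtain ⟨R, hR⟩ := CoprimeAct.exists_invariant_sylow hNxA hcop' (Or.inl hsolv) q
    set R₀ := (R : Subgroup Nx).map Nx.subtype
    obtain ⟨S, hRS, hS⟩ := CoprimeAct.exists_invariant_sylow_ge hAN hcop (Or.inl hsolv)
      ((map_subtype_le _).trans inf_le_left : R₀ ≤ N) (R.isPGroup'.map _) hR
    set S₀ := (S : Subgroup N).map N.subtype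
    have hc1 := card_inf_centralizer hNxA hcop' hsolv R hR
    have hc2 := card_inf_centralizer hAN hcop hsolv S hS
    have hSc : Nat.card S₀ = q ^ (Nat.card N).factorization q := by
      rw [card_map_of_injective N.subtype_injective]; exact S.card_eq_multiplicity
    have hRc : Nat.card R₀ = q ^ (Nat.card Nx).factorization q := by
      rw [card_map_of_injective Nx.subtype_injective]; exact R.card_eq_multiplicity
    have hinf : R₀ ⊓ (S₀ ⊓ centralizer (A : Set G)) = R₀ ⊓ centralizer (A : Set G) := by
      rw [← inf_assoc, inf_eq_left.2 hRS]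
    have hrel : ∀ H K : Subgroup G, H.relIndex K * Nat.card ↥(H ⊓ K) = Nat.card K := by
      intro H K
      rw [← card_mul_index (H.subgroupOf K), mul_comm,
        show Nat.card ↥(H ⊓ K) = Nat.card (H.subgroupOf K) from ?_]
      · rfl
      rw [← inf_subgroupOf_right]
      exact (Nat.card_congr (subgroupOfEquivOfLe inf_le_right).toEquiv).symm
    have h1 := hrel R₀ (S₀ ⊓ centralizer (A : Set G))
    rw [hinf, hc1, hc2] at h1
    have h2 := hrel R₀ S₀
    rw [inf_eq_left.2 hRS, hRc, hSc] at h2
    have h0 : R₀.relIndex S₀ ≠ 0 := by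
      intro h
      rw [h, zero_mul] at h2
      exact pow_ne_zero _ hq.ne_zero h2.symm
    have h3 := relIndex_le_of_le_right (inf_le_left : S₀ ⊓ centralizer (A : Set G) ≤ S₀) h0
    refine (Nat.pow_le_pow_iff_right hq.one_lt).1 ?_
    rw [pow_add, pow_add, ← h1, ← h2]
    calc R₀.relIndex (S₀ ⊓ centralizer (A : Set G)) * q ^ (Nat.card Cx).factorization q *
          q ^ (Nat.card Nx).factorization q
        ≤ R₀.relIndex S₀ * q ^ (Nat.card Cx).factorization q *
          q ^ (Nat.card Nx).factorization q := by gcongr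
      _ = _ := by ring
  have hf0 : (fixedPoints A E).ncard ≠ 0 := by
    intro h; rw [h, zero_mul] at hC; exact Nat.card_pos.ne hC
  have hE0 : Nat.card E ≠ 0 := by
    intro h; rw [h, zero_mul] at hN'; exact Nat.card_pos.ne hN'
  refine (Nat.factorization_prime_le_iff_dvd hf0 hE0).1 fun q hq => ?_
  have e1 := congrArg (fun n : ℕ => n.factorization q) hC
  have e2 := congrArg (fun n : ℕ => n.factorization q) hN'
  simp only [Nat.factorization_mul hf0 Nat.card_pos.ne',
    Nat.factorization_mul hE0 Nat.card_pos.ne', Finsupp.add_apply] at e1 e2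
  have := key q hq
  omega

end Cfsg.Agent.SylowOrbits
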