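import Cfsg.Agent.Lib.SylowOrbits.System
import Cfsg.Agent.Lib.SylowOrbits.Coprime

/-!
The stabiliser of a point of a natural orbit is transitive on a primitive orbit of large defect.
-/

set_option autoImplicit false
set_option linter.unusedSectionVars false
set_option linter.style.haveILetI false

namespace Cfsg.Agent.SylowOrbits

open MulAction Subgroup Equiv
open scoped Pointwise

universe u

variable {p : ℕ} [Fact p.Prime]

theorem choose_two_le {k i : ℕ} (hi : 2 ≤ i) (hik : i + 2 ≤ k) : k.choose 2 ≤ k.choose i := by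
  induction k generalizing i with
  | zero => omega
  | succ n ih =>
    rcases eq_or_lt_of_le hi with rfl | hi3
    · exact le_rfl
    obtain ⟨j, rfl⟩ : ∃ j, i = j + 1 := ⟨i - 1, by omega⟩
    rw [Nat.choose_succ_succ' n j, show (2 : ℕ) = 1 + 1 from rfl, Nat.choose_succ_succ' n 1,
      Nat.choose_one_right]
    have h1 := ih (i := j) (by omega) (by omega)
    rcases Nat.lt_or_ge (j + 1) (n - 1) with hj | hj
    · have h2 := ih (i := j + 1) (by omega) (by omega)
      have h3 : n ≤ n.choose 2 := (lt_choose (by omega) le_rfl (by omega)).le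
      simp only [Nat.reduceAdd] at *
      omega
    · have h3 : n.choose (j + 1) = n := by
        rw [show j + 1 = n - 1 by omega, ← Nat.choose_symm (by omega : n - 1 ≤ n),
          show n - (n - 1) = 1 by omega, Nat.choose_one_right]
      simp only [Nat.reduceAdd] at *
      omega

variable {K Δ : Type u} [Group K] [Finite K] [MulAction K Δ] [Finite Δ]

theorem eq_one_of_pEl {G : Type*} [Group G] [Finite G] {N : Subgroup G} (hN : ¬ p ∣ Nat.card N)
    {g : G} (hg : g ∈ N) (he : IsPEl p g) : g = 1 := by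
  obtain ⟨k, hk⟩ := he
  have h1 : orderOf g ∣ p ^ k := orderOf_dvd_of_pow_eq_one hk
  have h2 : orderOf g ∣ Nat.card N := by
    rw [show g = ((⟨g, hg⟩ : N) : G) from rfl, Subgroup.orderOf_coe]
    exact orderOf_dvd_natCard _
  have hcop : (p ^ k).Coprime (Nat.card N) :=
    Nat.Coprime.pow_left k (((Fact.out : p.Prime).coprime_iff_not_dvd).2 hN)
  exact orderOf_eq_one_iff.1 (Nat.dvd_one.1 (hcop.gcd_eq_one ▸ Nat.dvd_gcd h1 h2))

theorem not_dvd_card_map {α : Type*} [Finite α] [MulAction K α] (N : Subgroup K)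
    (h : ∀ g ∈ N, IsPEl p g → toPermHom K α g = 1) :
    ¬ p ∣ Nat.card (N.map (toPermHom K α)) := by
  intro hdvd
  obtain ⟨x, hx⟩ := exists_prime_orderOf_dvd_card' p hdvd
  have hx' : (x : Perm α) ^ p = 1 := by
    rw [← hx, ← Subgroup.orderOf_coe, pow_orderOf_eq_one]
  obtain ⟨g, hgN, hge, hgx⟩ := exists_pEl_preimage (toPermHom K α) N x.2 hx'
  rw [h g hgN hge] at hgx
  rw [show x = 1 from Subtype.ext hgx.symm, orderOf_one] at hx
  exact (Fact.out : p.Prime).ne_one hx.symm

theorem transitive_of_natural (hp2 : p ≠ 2) (hgen : pe p (⊤ : Subgroup K) = ⊤) (P : Sylow p K)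
    {y₀ : Δ} (hy₀ : ∃ g : K, g • y₀ ≠ y₀) (hmax : IsCoatom (stabilizer K y₀))
    (hbig : cc p * p < dd p (P : Subgroup K) (orbit K y₀))
    (hsmall : dd p (P : Subgroup K) (orbit K y₀) < (2 * (p : ℤ) - 4) * p ∨
      (orbit K y₀).ncard = p)
    {z : Δ} {M : Subgroup K} (hz : NatSys p M z) :
    ∀ e ∈ orbit K y₀, ∀ e' ∈ orbit K y₀, ∃ l ∈ pe p (stabilizer K z), l • e = e' := by
  classical
  have hp : p.Prime := Fact.out
  haveI := Fintype.ofFinite (K ⧸ M)
  set ψ := toPermHom K (K ⧸ M)
  have hA : ψ.range = alternatingGroup (K ⧸ M) := hz.range_eq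
  set H₀ := stabilizer K y₀
  set Kn := ψ.ker
  set N₁ := pe p Kn
  haveI : N₁.Normal := pe_normal Kn
  have hN₁z : N₁ ≤ pe p (stabilizer K z) :=
    pe_le_iff.2 fun g hg he => mem_pe (hz.fix g (ker_le hg) he) he
  by_cases hN₁ : N₁ ≤ H₀
  swap
  · have htop : N₁ ⊔ H₀ = ⊤ := hmax.2 _ (right_lt_sup.2 hN₁)
    have hmove : ∀ e ∈ orbit K y₀, ∃ n ∈ N₁, n • y₀ = e := by
      rintro _ ⟨k, rfl⟩
      obtain ⟨n, hn, h, hh, rfl⟩ := mem_sup_of_normal_left.1 (htop ▸ mem_top k : k ∈ N₁ ⊔ H₀)
      exact ⟨n, hn, by simp only [mul_smul]; rw [mem_stabilizer_iff.1 hh]⟩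
    intro e he e' he'
    obtain ⟨n, hn, rfl⟩ := hmove e he
    obtain ⟨n', hn', rfl⟩ := hmove e' he'
    exact ⟨n' * n⁻¹, mul_mem (hN₁z hn') (inv_mem (hN₁z hn)),
      by rw [mul_smul, inv_smul_smul]⟩
  exfalso
  set φ := toPermHom K (orbit K y₀)
  set Φ := φ.ker
  have hΦH : Φ ≤ H₀ := fun g hg => by
    have h := Equiv.congr_fun (MonoidHom.mem_ker.1 hg) ⟨y₀, mem_orbit_self y₀⟩
    exact congrArg Subtype.val h
  have hker : ∀ g ∈ Kn, IsPEl p g → φ g = 1 := by
    intro g hg he
    apply Equiv.ext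
    rintro ⟨_, k, rfl⟩
    have hc : k⁻¹ * g * k ∈ H₀ :=
      hN₁ (by simpa using (inferInstance : N₁.Normal).conj_mem g (mem_pe hg he) k⁻¹)
    rw [mem_stabilizer_iff, mul_smul, mul_smul, inv_smul_eq_iff] at hc
    exact Subtype.ext hc
  have hp' := not_dvd_card_map Kn hker
  haveI : IsSimpleGroup ψ.range := by
    rw [hA]
    exact alternatingGroup.isSimpleGroup (by rw [← index_eq_card]; exact hz.five)
  have hΦKn : Φ ≤ Kn := by
    haveI hn : (Φ.map ψ.rangeRestrict).Normal :=
      Subgroup.Normal.map inferInstance _ ψ.rangeRestrict_surjective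
    rcases hn.eq_bot_or_eq_top with h | h
    · intro g hg
      have h1 : ψ.rangeRestrict g ∈ Φ.map ψ.rangeRestrict := ⟨g, hg, rfl⟩
      rw [h, mem_bot] at h1
      exact MonoidHom.mem_ker.2 (congrArg Subtype.val h1)
    · exfalso
      obtain ⟨w, hw⟩ := hy₀
      have key : pe p (⊤ : Subgroup K) ≤ Φ := by
        refine pe_le_iff.2 fun g _ he => ?_
        have h1 : ψ.rangeRestrict g ∈ Φ.map ψ.rangeRestrict := h ▸ mem_top _
        obtain ⟨a, ha, hag⟩ := h1
        have hb : a⁻¹ * g ∈ Kn := by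
          have := congrArg Subtype.val hag
          rw [MonoidHom.mem_ker, map_mul, map_inv]
          exact inv_mul_eq_one.2 this
        have hφ : φ g ∈ Kn.map φ := ⟨_, hb, by
          rw [map_mul, map_inv, MonoidHom.mem_ker.1 ha, inv_one, one_mul]⟩
        exact MonoidHom.mem_ker.2 (eq_one_of_pEl hp' hφ (he.map φ))
      rw [hgen] at key
      exact hw (mem_stabilizer_iff.1 (hΦH (key (mem_top w))))
  -- the degree of the orbit is large
  set d := (orbit K y₀).ncard with hd
  haveI : Nontrivial (K ⧸ M) := by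
    rw [← Finite.one_lt_card_iff_nontrivial, ← index_eq_card]
    have := hz.five
    omega
  have hk : (M.index).factorial ≤ 2 * d.factorial := by
    have h1 := two_mul_nat_card_alternatingGroup (α := K ⧸ M)
    rw [Nat.card_perm, ← hA, ← index_ker, ← index_eq_card] at h1
    have h2 : Kn.index ∣ Φ.index := index_dvd_of_le hΦKn
    rw [index_ker φ] at h2
    have h3 : Kn.index ≤ Nat.card φ.range := Nat.le_of_dvd Nat.card_pos h2
    have h4 := Subgroup.card_le_card_group φ.range
    rw [Nat.card_perm, Nat.card_coe_set_eq, ← hd] at h4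
    change 2 * Kn.index = _ at h1
    rw [← h1]
    omega
  have hlow : p + 2 ≤ M.index := by
    have h3 := hz.three
    have h5 := hz.five
    omega
  have hd2 : p + 2 ≤ d := by
    by_contra h
    have h1 := Nat.factorial_le (show d ≤ p + 1 by omega)
    have h2 := Nat.factorial_le hlow
    rw [Nat.factorial_succ (p + 1)] at h2
    have h3 := (p + 1).factorial_pos
    have h4 : 3 * (p + 1).factorial ≤ (p + 1 + 1) * (p + 1).factorial :=
      Nat.mul_le_mul_right _ (by have := hp.two_le; omega)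
    omega
  replace hsmall := hsmall.resolve_right (by omega)
  set f := fxs (P : Subgroup K) (orbit K y₀) with hf
  have hp3 : (3 : ℤ) ≤ p := by
    have := hp.two_le
    omega
  have hdd : dd p (P : Subgroup K) (orbit K y₀) =
      ((p : ℤ) - 1) * d - (2 * (p : ℤ) - 1) * f := rfl
  have hmod : d ≡ f [MOD p] := fxs_modEq P.isPGroup' fun g _ => inv_orbit' y₀ g trivial
  have hf0 : f ≠ 0 := by
    intro h0
    rw [h0] at hmod hdd
    obtain ⟨c, hc⟩ := Nat.modEq_zero_iff_dvd.1 hmod
    have hc2 : 2 ≤ c := by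
      by_contra h
      interval_cases c <;> omega
    rw [hdd, hc] at hsmall
    have : (2 : ℤ) ≤ c := by exact_mod_cast hc2
    push_cast at hsmall
    nlinarith [mul_le_mul_of_nonneg_left this (show 0 ≤ ((p : ℤ) - 1) * p by nlinarith)]
  obtain ⟨⟨Q, hQ⟩, -⟩ := exists_sylow_le P (M := H₀) (by rw [← (orbit_quot _ y₀).2]; exact hf0)
  by_cases hKn : Kn ≤ H₀
  · -- the orbit is an orbit on sets
    obtain ⟨g, hgQ, hgc, hgs⟩ := hz.exists_cycle_mem hgen Q
    have h5 : 5 ≤ Nat.card (K ⧸ M) := by rw [← index_eq_card]; exact hz.five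
    have h3 : p = 3 ∨ p + 3 ≤ Nat.card (K ⧸ M) := by rw [← index_eq_card]; exact hz.three
    have hlt : Nat.card (K ⧸ M) < 2 * p := by rw [← index_eq_card]; exact hz.lt
    obtain ⟨I, hne, hIp, hHI⟩ :=
      exists_stable_set hA h3 hlt h5 hKn hmax.1 (hQ hgQ) hgc hgs
    have hI1 := (Set.ncard_pos (Set.toFinite I)).2 hne
    have hik : I.ncard + 2 ≤ Nat.card (K ⧸ M) := by omega
    have horb := orbit_set hA hik
    have hcard : (orbit K I).ncard = (Nat.card (K ⧸ M)).choose I.ncard := by
      rw [horb, ncard_sets]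
    have hst : stabilizer K I = H₀ := by
      by_contra hne'
      have htop := hmax.2 _ (lt_of_le_of_ne hHI (Ne.symm hne'))
      rw [← index_stabilizer, htop, index_top] at hcard
      rcases Nat.lt_or_ge I.ncard 2 with h | h
      · rw [show I.ncard = 1 by omega, Nat.choose_one_right] at hcard
        omega
      · have := lt_choose h5 h hik
        omega
    have hdQ : dd p (P : Subgroup K) (orbit K y₀) = dd p (P : Subgroup K) (orbit K I) := by
      rw [dd_orbit_quot, dd_orbit_quot, hst]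
    rcases Nat.lt_or_ge I.ncard 2 with hi | hi
    · obtain ⟨x, rfl⟩ := Set.ncard_eq_one.1 (show I.ncard = 1 by omega)
      rw [stabilizer_singleton] at hst
      have hx : dd p (P : Subgroup K) (orbit K y₀) =
          dd p (P : Subgroup K) (Set.univ : Set (K ⧸ M)) := by
        rw [← orbit_eq_univ K x, dd_orbit_quot, dd_orbit_quot, hst]
      rw [hx, dd, Set.ncard_univ, ← index_eq_card] at hbig
      have h := hz.fxs_eq P
      have hlo := hz.low
      rw [← h] at hbig hlo
      push_cast at hbig hlo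
      nlinarith
    · rw [hdQ, dd, hcard] at hsmall
      have hfI : fxs (P : Subgroup K) (orbit K I) ≤
          (Nat.card (K ⧸ M) - p).choose I.ncard := by
        rw [fxs_conj P Q fun g a ha => inv_orbit' I g trivial a ha]
        refine (Set.ncard_le_ncard ?_ (Set.toFinite _)).trans
          (ncard_fixed_sets_le hgc hgs hIp)
        rintro J ⟨hJ, hfix⟩
        rw [horb] at hJ
        exact ⟨hJ, mem_fixedPoints_sub.1 hfix g hgQ⟩
      have h4 : 4 * (Nat.card (K ⧸ M) - p).choose I.ncard ≤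
          (Nat.card (K ⧸ M)).choose I.ncard := four_mul_choose_le (by omega) hi
      have hc := choose_two_le hi hik
      have hc' := Nat.choose_le_choose 2 (show p + 2 ≤ Nat.card (K ⧸ M) by omega)
      have h2 : (p + 2) * (p + 1) = 2 * (p + 2).choose 2 := by
        rw [Nat.choose_two_right, Nat.mul_div_cancel' ]
        · rw [show p + 2 - 1 = p + 1 by omega]
        · exact (Nat.even_mul_pred_self _).two_dvd
      set C := (Nat.card (K ⧸ M)).choose I.ncard
      have e1 : (4 : ℤ) * fxs (P : Subgroup K) (orbit K I) ≤ C := by omega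
      have e2 : ((p : ℤ) + 2) * ((p : ℤ) + 1) ≤ 2 * C := by
        have : (p + 2) * (p + 1) ≤ 2 * C := by rw [h2]; omega
        exact_mod_cast this
      nlinarith [mul_le_mul_of_nonneg_left e1 (show (0 : ℤ) ≤ 2 * p - 1 by omega),
        mul_le_mul_of_nonneg_left e2 (show (0 : ℤ) ≤ 2 * p - 3 by omega),
        mul_nonneg (show (0 : ℤ) ≤ p - 3 by omega) (sq_nonneg ((p : ℤ) - 3))]
  · -- a transitive normal `p'`-subgroup
    have htop : Kn ⊔ H₀ = ⊤ := hmax.2 _ (right_lt_sup.2 hKn)
    set NE := Kn.map φ with hNE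
    have htr : ∀ x y : orbit K y₀, ∃ k ∈ NE, k • x = y := by
      have hmove : ∀ e : orbit K y₀, ∃ n ∈ Kn, n • (⟨y₀, mem_orbit_self y₀⟩ : orbit K y₀) = e := by
        rintro ⟨_, k, rfl⟩
        obtain ⟨n, hn, h, hh, rfl⟩ := mem_sup_of_normal_left.1 (htop ▸ mem_top k : k ∈ Kn ⊔ H₀)
        refine ⟨n, hn, Subtype.ext ?_⟩
        show n • y₀ = (n * h) • y₀
        rw [mul_smul, mem_stabilizer_iff.1 hh]
      intro x y
      obtain ⟨n, hn, rfl⟩ := hmove x
      obtain ⟨n', hn', rfl⟩ := hmove y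
      refine ⟨φ (n' * n⁻¹), mem_map_of_mem _ (mul_mem hn' (inv_mem hn)), ?_⟩
      rw [Perm.smul_def, toPermHom_apply, toPerm_apply, mul_smul, inv_smul_smul]
    have hnorm : (P : Subgroup K).map φ ≤ normalizer (NE : Set (Perm (orbit K y₀))) := by
      rintro _ ⟨a, -, rfl⟩
      rw [mem_normalizer_iff]
      intro b
      constructor
      · rintro ⟨n, hn, rfl⟩
        exact ⟨a * n * a⁻¹, ψ.normal_ker.conj_mem n hn a, by simp⟩
      · rintro ⟨n, hn, hb⟩
        refine ⟨a⁻¹ * n * a, by
          have := ψ.normal_ker.conj_mem n hn a⁻¹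
          rwa [inv_inv] at this, ?_⟩
        rw [map_mul, map_mul, map_inv, hb]
        group
    have hfixset : fixedPoints ((P : Subgroup K).map φ) (orbit K y₀) =
        fixedPoints (P : Subgroup K) (orbit K y₀) := by
      ext e
      rw [mem_fixedPoints_sub, mem_fixedPoints_sub]
      exact ⟨fun h g hg => h (φ g) ⟨g, hg, rfl⟩, fun h _ ⟨g, hg, hgx⟩ => hgx ▸ h g hg⟩
    have hfx : (fixedPoints ((P : Subgroup K).map φ) (orbit K y₀)).ncard = f := by
      rw [hfixset, hf, fxs, ← Set.ncard_image_of_injective _ Subtype.val_injective]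
      congr 1
      ext a
      constructor
      · rintro ⟨x, hx, rfl⟩
        exact ⟨x.2, fun g => congrArg Subtype.val (hx g)⟩
      · rintro ⟨ha, hfa⟩
        exact ⟨⟨a, ha⟩, fun g => Subtype.ext (hfa g), rfl⟩
    obtain ⟨x, hx⟩ := Set.nonempty_of_ncard_ne_zero (hfx.symm ▸ hf0)
    obtain ⟨m, hm⟩ : f ∣ d := by
      have h := ncard_fixed_dvd (P.isPGroup'.map φ) hp' hnorm htr hx
      rwa [hfx, Nat.card_coe_set_eq, ← hd] at h
    have hpd : ¬ p ∣ d := by
      intro h
      haveI : IsPretransitive NE (orbit K y₀) :=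
        ⟨fun x y => by obtain ⟨k, hk, hky⟩ := htr x y; exact ⟨⟨k, hk⟩, hky⟩⟩
      have h1 := index_stabilizer_of_transitive (G := NE) (x := x)
      rw [Nat.card_coe_set_eq, ← hd] at h1
      exact hp' (h.trans (h1 ▸ Subgroup.index_dvd_card _))
    have hpf : ¬ p ∣ f := fun h => hpd (hm ▸ h.mul_right m)
    have hm0 : m ≠ 0 := by rintro rfl; rw [mul_zero] at hm; omega
    have hm1 : p ∣ m - 1 := by
      have hfd : f ≤ d := hm ▸ Nat.le_mul_of_pos_right f (Nat.pos_of_ne_zero hm0)
      have h := (Nat.modEq_iff_dvd' hfd).1 hmod.symm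
      rw [hm, show f * m - f = f * (m - 1) by rw [Nat.mul_sub, mul_one]] at h
      exact (hp.dvd_mul.1 h).resolve_left hpf
    obtain ⟨t, ht⟩ := hm1
    have hmt : m = 1 + p * t := by omega
    rw [hmt] at hm
    rw [hdd, hm] at hsmall hbig
    push_cast at hsmall hbig
    have hc0 := cc_nonneg p
    have hfp : (1 : ℤ) ≤ f := by omega
    have e : ((p : ℤ) - 1) * ((f : ℤ) * (1 + p * t)) - (2 * (p : ℤ) - 1) * f =
        p * ((f : ℤ) * (((p : ℤ) - 1) * t - 1)) := by ring
    rw [e] at hsmall hbig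
    rw [mul_comm (2 * (p : ℤ) - 4)] at hsmall
    rw [mul_comm (cc p)] at hbig
    have h1 := lt_of_mul_lt_mul_left hsmall (by omega : (0 : ℤ) ≤ p)
    have h0 := lt_of_mul_lt_mul_left hbig (by omega : (0 : ℤ) ≤ p)
    have ht1 : (1 : ℤ) ≤ t := by
      by_contra h
      rw [show (t : ℤ) = 0 by omega] at h0
      simp only [mul_zero, zero_sub, mul_neg, mul_one] at h0
      omega
    have hX : (p : ℤ) - 2 ≤ ((p : ℤ) - 1) * t - 1 := by
      have := mul_le_mul_of_nonneg_left ht1 (show (0 : ℤ) ≤ p - 1 by omega)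
      omega
    have hf1 : f = 1 := by
      by_contra h
      have := mul_le_mul (show (2 : ℤ) ≤ f by omega) hX (by omega) (by omega)
      omega
    have ht2 : t = 1 := by
      rw [hf1] at h1
      by_contra h
      have := mul_le_mul_of_nonneg_left (show (2 : ℤ) ≤ t by omega)
        (show (0 : ℤ) ≤ p - 1 by omega)
      push_cast at h1
      omega
    rw [hf1, ht2] at hm
    omega

end Cfsg.Agent.SylowOrbits
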