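import Cfsg.Agent.Lib.SylowOrbits.Stab
import Cfsg.Agent.Lib.SylowOrbits.Natural

/-!
A primitive orbit of a stabiliser carrying most of the defect consists of all other points.
-/

set_option autoImplicit false
set_option linter.unusedSectionVars false
set_option linter.style.haveILetI false

namespace Cfsg.Agent.SylowOrbits

open MulAction Subgroup
open scoped Pointwise

universe u

variable {p : ℕ} [Fact p.Prime]
variable {X Δ : Type u} [Group X] [Finite X] [MulAction X Δ] [Finite Δ] {N : ℕ}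

theorem card_lt_of_ne (hN : Nat.card Δ ≤ N) {A : Set Δ} {ε : Δ} (h : A ⊆ ({ε}ᶜ : Set Δ)) :
    A.ncard < N := by
  refine (Set.ncard_le_ncard h).trans_lt (lt_of_lt_of_le ?_ hN)
  rw [Set.ncard_compl, Set.ncard_singleton]
  have : 0 < Nat.card Δ := by
    haveI : Nonempty Δ := ⟨ε⟩
    exact Nat.card_pos
  omega

theorem orbit_sub_compl {ε y : Δ} (hy : y ≠ ε) :
    orbit (SK (X := X) p ε) y ⊆ ({ε}ᶜ : Set Δ) :=
  orbit_subset' (inv_compl ε) (Set.mem_compl_singleton_iff.2 hy)

/-- Some natural system exists for orbits of small defect. -/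
theorem exists_natSys (hp2 : p ≠ 2) (hIH : IH.{u} p N) [IsPreprimitive X Δ] (hN : Nat.card Δ ≤ N)
    (P : Sylow p X) {ε : Δ} (hε : (P : Subgroup X) ≤ stabilizer X ε)
    (hP : ¬ ∀ a : Δ, a ∈ fixedPoints (P : Subgroup X) Δ) {z : Δ} (hz : z ≠ ε)
    (hd : dd p (P : Subgroup X) (orbit (SK (X := X) p ε) z) ≤ cc p * p) :
    ∃ M : Subgroup (SK (X := X) p ε), NatSys p M z := by
  have hp : p.Prime := Fact.out
  have hmov := sk_moves P hε hP hz
  have hN' := card_lt_of_ne (N := N) hN (orbit_sub_compl (X := X) (p := p) hz)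
  rw [← dd_skSylow P hε] at hd
  have hlt : cc p * p < (2 * (p : ℤ) - 1) * p := by
    have : (2 : ℤ) ≤ p := by exact_mod_cast hp.two_le
    rcases cc_cases hp hp2 with ⟨-, hc⟩ | ⟨-, hc⟩ <;> rw [hc] <;> nlinarith
  obtain ⟨M, hM, hle, hMN, hB, heq, h1⟩ :=
    exists_system hIH (sk_gen ε) (skSylow P hε) hmov hN' (lt_of_le_of_lt hd hlt)
  refine ⟨M, natSys_of_le hp2 hIH (sk_gen ε) _ hM hle hMN h1 (le_trans ?_ hd)⟩
  rw [heq]
  refine le_mul_of_one_le_left hB ?_
  exact_mod_cast Nat.one_le_iff_ne_zero.2 (Subgroup.FiniteIndex.index_ne_zero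
    (H := (stabilizer (SK (X := X) p ε) z).subgroupOf M))

theorem clique (hp2 : p ≠ 2) (hIH : IH.{u} p N) [IsPreprimitive X Δ] (hN : Nat.card Δ ≤ N)
    (P : Sylow p X) {ε : Δ} (hε : (P : Subgroup X) ≤ stabilizer X ε)
    (hP : ¬ ∀ a : Δ, a ∈ fixedPoints (P : Subgroup X) Δ) {y₀ : Δ} (hy₀ : y₀ ≠ ε)
    (hmax : IsCoatom (stabilizer (SK (X := X) p ε) y₀))
    (hbig : cc p * p < dd p (P : Subgroup X) (orbit (SK (X := X) p ε) y₀))
    (hhalf : dd p (P : Subgroup X) ({ε}ᶜ : Set Δ) <
      2 * dd p (P : Subgroup X) (orbit (SK (X := X) p ε) y₀))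
    (hrest : dd p (P : Subgroup X) ({ε}ᶜ : Set Δ) -
      dd p (P : Subgroup X) (orbit (SK (X := X) p ε) y₀) ≤ cc p * p)
    (hsmall : dd p (P : Subgroup X) (orbit (SK (X := X) p ε) y₀) < (2 * (p : ℤ) - 4) * p ∨
      (orbit (SK (X := X) p ε) y₀).ncard = p) :
    orbit (SK (X := X) p ε) y₀ = ({ε}ᶜ : Set Δ) := by
  classical
  set K := SK (X := X) p ε with hK
  set E₀ := orbit K y₀
  set P' := skSylow P hε
  have hgen : pe p (⊤ : Subgroup K) = ⊤ := sk_gen ε
  have hmovall : ∀ a ∈ ({ε}ᶜ : Set Δ), ∃ k : K, k • a ≠ a := fun a ha => sk_moves P hε hP ha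
  have hEsub : E₀ ⊆ ({ε}ᶜ : Set Δ) := orbit_sub_compl hy₀
  have hεE : ε ∉ E₀ := fun h => hEsub h rfl
  -- invariant sets with the same defect and size are equal
  have hbigeq : ∀ A : Set Δ, Inv (⊤ : Subgroup K) A → A ⊆ ({ε}ᶜ : Set Δ) →
      dd p (P : Subgroup X) A = dd p (P : Subgroup X) E₀ → A.ncard = E₀.ncard → A = E₀ := by
    intro A hA hsub hdA hcA
    by_cases hdis : Disjoint E₀ A
    · exfalso
      have hinv : Inv (⊤ : Subgroup K) (E₀ ∪ A) := fun g hg a ha => ha.imp
        (inv_orbit' y₀ g hg a) (hA g hg a)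
      have h := dd_le_of_subset hIH hgen P' (inv_compl ε) hinv hmovall
        (Set.union_subset hEsub hsub) (card_lt_of_ne hN subset_rfl)
      rw [dd_skSylow, dd_skSylow, dd_union _ hdis, hdA] at h
      omega
    · obtain ⟨e, he, heA⟩ := Set.not_disjoint_iff.1 hdis
      have : E₀ ⊆ A := by
        rw [show E₀ = orbit K e from (orbit_eq_iff.2 he).symm]
        exact orbit_subset' hA heA
      exact (Set.eq_of_subset_of_ncard_le this hcA.le).symm
  -- the orbit is invariant under the stabiliser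
  have hconjK : ∀ x : X, x • ε = ε → ∀ k ∈ K, x⁻¹ * k * x ∈ K := by
    intro x hx k hk
    have := conj_mem_pe (p := p) (H := stabilizer X ε) (x := x⁻¹) (fun a ha =>
      mul_mem (mul_mem (inv_mem hx) ha) (inv_mem (inv_mem hx))) hk
    simpa using this
  have hinvX : ∀ x : X, x • ε = ε → x • E₀ = E₀ := by
    intro x hx
    refine hbigeq _ ?_ ?_ ?_ (Set.ncard_smul_set x E₀)
    · rintro k - _ ⟨e, he, rfl⟩
      refine ⟨(x⁻¹ * k * x : X) • e,
        inv_orbit' y₀ ⟨_, hconjK x hx k k.2⟩ trivial e he, ?_⟩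
      show x • (x⁻¹ * k * x : X) • e = (k : X) • x • e
      rw [← mul_smul, ← mul_smul]
      congr 1
      group
    · rintro _ ⟨e, he, rfl⟩ (h : x • e = ε)
      exact hEsub he (smul_left_cancel x (h.trans hx.symm))
    · rw [dd, dd, fxs_translate P hε (g := x) (by rw [hx]; exact fun g => hε g.2) (inv_orbit' y₀),
        Set.ncard_smul_set]
  -- the orbital relation
  set Rel : Δ → Δ → Prop := fun a b => ∃ g : X, g • ε = a ∧ g⁻¹ • b ∈ E₀
  have hout : ∀ g : X, ∀ b, Rel (g • ε) b ↔ b ∈ g • E₀ := by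
    intro g b
    rw [Set.mem_smul_set_iff_inv_smul_mem]
    refine ⟨fun ⟨h, hh, hb⟩ => ?_, fun h => ⟨g, rfl, h⟩⟩
    have := hinvX (g⁻¹ * h) (by rw [mul_smul, hh, inv_smul_smul])
    rw [← this]
    exact ⟨h⁻¹ • b, hb, by
      show (g⁻¹ * h) • h⁻¹ • b = g⁻¹ • b
      rw [← mul_smul]; congr 1; group⟩
  have hequiv : ∀ (x : X) a b, Rel a b → Rel (x • a) (x • b) := by
    rintro x a b ⟨g, rfl, h⟩
    exact ⟨x * g, mul_smul _ _ _, by rwa [← mul_smul, mul_inv_rev, inv_mul_cancel_right]⟩
  set In : Set Δ := {a | Rel a ε}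
  have hinIff : ∀ (g : X) a, Rel a (g • ε) ↔ a ∈ g • In := by
    intro g a
    rw [Set.mem_smul_set_iff_inv_smul_mem]
    constructor
    · intro h
      have := hequiv g⁻¹ _ _ h
      rwa [inv_smul_smul] at this
    · intro h
      have := hequiv g _ _ h
      rwa [smul_inv_smul] at this
  have hInv : Inv (⊤ : Subgroup K) In := by
    intro k _ a ha
    have := hequiv (k : X) _ _ ha
    rwa [show (k : X) • ε = ε from sk_smul_self k] at this
  have hInsub : In ⊆ ({ε}ᶜ : Set Δ) := by
    rintro a ⟨g, rfl, hg⟩ (h : g • ε = ε)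
    have := hinvX g h
    rw [← h, inv_smul_smul] at hg
    exact hεE hg
  have hcard : In.ncard = E₀.ncard := by
    have h := double_count (Set.univ : Set Δ) Rel (d := E₀.ncard) (e := In.ncard)
      (fun a _ => by
        obtain ⟨g, rfl⟩ := exists_smul_eq X ε a
        simp only [Set.mem_univ, true_and, hout, Set.ofPred_mem_eq, Set.ncard_smul_set])
      (fun b _ => by
        obtain ⟨g, rfl⟩ := exists_smul_eq X ε b
        simp only [Set.mem_univ, true_and, hinIff, Set.ofPred_mem_eq, Set.ncard_smul_set])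
    refine (Nat.eq_of_mul_eq_mul_left ?_ h).symm
    rw [Set.ncard_univ]
    haveI : Nonempty Δ := ⟨ε⟩
    exact Nat.card_pos
  have hfix : fxs (P : Subgroup X) In = fxs (P : Subgroup X) E₀ := by
    have h := double_count (fixedPoints (P : Subgroup X) Δ) Rel
      (d := fxs (P : Subgroup X) E₀) (e := fxs (P : Subgroup X) In)
      (fun a ha => by
        obtain ⟨g, rfl⟩ := exists_smul_eq X ε a
        rw [← fxs_translate P hε ha (inv_orbit' y₀), fxs]
        congr 1
        ext b
        simp only [Set.mem_ofPred_eq, hout, Set.mem_inter_iff]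
        exact And.comm)
      (fun b hb => by
        obtain ⟨g, rfl⟩ := exists_smul_eq X ε b
        rw [← fxs_translate P hε hb hInv, fxs]
        congr 1
        ext a
        simp only [Set.mem_ofPred_eq, hinIff, Set.mem_inter_iff]
        exact And.comm)
    refine (Nat.eq_of_mul_eq_mul_left ?_ h).symm
    exact (Set.ncard_pos (Set.toFinite _)).2 ⟨ε, fun g => hε g.2⟩
  have hInE : In = E₀ := hbigeq In hInv hInsub (by rw [dd, dd, hcard, hfix]) hcard
  have hsymm : ∀ a b, Rel a b → Rel b a := by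
    rintro a b ⟨g, rfl, hb⟩
    rw [← hInE] at hb
    have := hequiv g _ _ hb
    rwa [smul_inv_smul] at this
  -- stabilisers of a related and an unrelated point are transitive on the neighbourhood
  have hkey : ∀ g : X, ∀ z, z ≠ g • ε → ¬ Rel (g • ε) z → ∀ e ∈ g • E₀, ∀ e' ∈ g • E₀,
      ∃ l ∈ pe p (stabilizer X (g • ε) ⊓ stabilizer X z), l • e = e' := by
    intro g z hz hrel _ ⟨e, he, he1⟩ _ ⟨e', he', he2⟩
    subst he1 he2
    set z' := g⁻¹ • z
    have hz' : z' ≠ ε := fun h => hz (by rw [← h, smul_inv_smul])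
    have hz'' : z' ∉ E₀ := fun h => hrel ⟨g, rfl, h⟩
    have hsub : orbit K z' ⊆ ({ε}ᶜ : Set Δ) \ E₀ :=
      orbit_subset' ((inv_compl ε).sdiff (inv_orbit' y₀)) ⟨hz', hz''⟩
    have hdz : dd p (P : Subgroup X) (orbit K z') ≤ cc p * p := by
      have h := dd_le_of_subset hIH hgen P' ((inv_compl ε).sdiff (inv_orbit' y₀))
        (inv_orbit' z') (fun a ha => hmovall a ha.1) hsub
        (card_lt_of_ne hN Set.sdiff_subset)
      rw [dd_skSylow, dd_skSylow] at h
      change _ ≤ dd p (P : Subgroup X) (({ε}ᶜ : Set Δ) \ E₀) at h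
      rw [dd_sdiff _ hEsub] at hrest
      change dd p (P : Subgroup X) E₀ + dd p (P : Subgroup X) (({ε}ᶜ : Set Δ) \ E₀) -
        dd p (P : Subgroup X) E₀ ≤ _ at hrest
      omega
    obtain ⟨M, hM⟩ := exists_natSys hp2 hIH hN P hε hP hz' hdz
    obtain ⟨l, hl, hle⟩ := transitive_of_natural hp2 hgen P' (hmovall y₀ hy₀) hmax
      (by rw [dd_skSylow]; exact hbig) (by rw [dd_skSylow]; exact hsmall) hM e he e' he'
    refine ⟨g * (l : X) * g⁻¹, ?_, ?_⟩
    · have hmap : (pe p (stabilizer K z')).map K.subtype ≤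
          (pe p (stabilizer X (g • ε) ⊓ stabilizer X z)).comap (MulAut.conj g).toMonoidHom := by
        rw [map_le_iff_le_comap]
        refine pe_le_iff.2 fun x hx hxe => mem_pe ⟨?_, ?_⟩ (hxe.coe.conj g)
        · show (g * (x : X) * g⁻¹) • g • ε = g • ε
          rw [mul_smul, mul_smul, inv_smul_smul, show (x : X) • ε = ε from sk_smul_self x]
        · show (g * (x : X) * g⁻¹) • z = z
          rw [mul_smul, mul_smul, show (x : X) • g⁻¹ • z = g⁻¹ • z from hx, smul_inv_smul]
      exact hmap ⟨l, hl, rfl⟩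
    · rw [mul_smul, mul_smul, inv_smul_smul]
      exact congrArg (g • ·) hle
  haveI : Nontrivial Δ := ⟨⟨y₀, ε, hy₀⟩⟩
  -- two points related to `ε` are related
  have hpair : ∀ y ∈ E₀, ∀ z ∈ E₀, y ≠ z → Rel y z := by
    intro y hy z hz hne
    by_contra hrel
    obtain ⟨g, rfl⟩ := exists_smul_eq X ε y
    obtain ⟨h, rfl⟩ := exists_smul_eq X ε z
    have hεg : ε ∈ g • E₀ := (hout g ε).1 (hsymm _ _ ⟨1, one_smul X ε, by simpa using hy⟩)
    have hεh : ε ∈ h • E₀ := (hout h ε).1 (hsymm _ _ ⟨1, one_smul X ε, by simpa using hz⟩)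
    have heq : g • E₀ = h • E₀ := by
      ext w
      constructor
      · intro hw
        obtain ⟨l, hl, rfl⟩ := hkey g (h • ε) (Ne.symm hne) hrel ε hεg w hw
        have hl2 : l • h • ε = h • ε := (pe_le _ hl).2
        have := hequiv l _ _ ((hout h ε).2 hεh)
        rw [hl2] at this
        exact (hout h _).1 this
      · intro hw
        obtain ⟨l, hl, rfl⟩ := hkey h (g • ε) hne (fun e => hrel (hsymm _ _ e)) ε hεh w hw
        have hl2 : l • g • ε = g • ε := (pe_le _ hl).2
        have := hequiv l _ _ ((hout g ε).2 hεg)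
        rw [hl2] at this
        exact (hout g _).1 this
    -- the points with the same neighbourhood form a block
    set B : Set Δ := {w | ∀ b, Rel w b ↔ Rel (g • ε) b}
    have hB : IsBlock X B := by
      refine isBlock_iff_smul_eq_or_disjoint.2 fun x => ?_
      by_cases hd : Disjoint (x • B) B
      · exact Or.inr hd
      left
      obtain ⟨_, ⟨w, hw, rfl⟩, hxw⟩ := Set.not_disjoint_iff.1 hd
      have hx : ∀ u, u ∈ x • B ↔ u ∈ B := by
        have hr : ∀ (x : X) a b, Rel (x • a) b ↔ Rel a (x⁻¹ • b) := by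
          intro x a b
          constructor
          · intro hh; have := hequiv x⁻¹ _ _ hh; rwa [inv_smul_smul] at this
          · intro hh; have := hequiv x _ _ hh; rwa [smul_inv_smul] at this
        intro u
        rw [Set.mem_smul_set_iff_inv_smul_mem]
        replace hxw : x • w ∈ B := hxw
        constructor
        · intro hu b
          rw [← hxw b, hr x w b, hw, ← hu, ← hr, smul_inv_smul]
        · intro hu b
          rw [hr, inv_inv, hu (x • b), ← hxw (x • b), hr x w, inv_smul_smul, hw]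
      exact Set.ext hx
    have hgB : g • ε ∈ B := fun b => Iff.rfl
    have hhB : h • ε ∈ B := fun b => by rw [hout, hout, heq]
    rcases IsPreprimitive.isTrivialBlock_of_isBlock hB with hs | hu
    · exact hne (hs hgB hhB)
    · have hεB : ε ∈ B := hu ▸ Set.mem_univ ε
      have := (hεB ε).2 ((hout g ε).2 hεg)
      rw [← one_smul X ε, hout] at this
      simp only [one_smul] at this
      exact hεE this
  -- hence the closed neighbourhood is a block
  have hoff : ∀ a ∈ insert ε E₀, ∀ g : X, g • ε = a → g • E₀ = insert ε E₀ \ {a} := by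
    intro a ha g hg
    refine (Set.eq_of_subset_of_ncard_le ?_ ?_ (Set.toFinite _)).symm
    · rintro b ⟨hb, hba⟩
      rw [Set.mem_singleton_iff] at hba
      rw [← hout, hg]
      rcases ha with rfl | ha <;> rcases hb with rfl | hb
      · exact absurd rfl hba
      · exact ⟨1, one_smul _ _, by simpa using hb⟩
      · exact hsymm _ _ ⟨1, one_smul _ _, by simpa using ha⟩
      · exact hpair a ha b hb (Ne.symm hba)
    · rw [Set.ncard_smul_set, Set.ncard_sdiff_singleton_of_mem ha,
        Set.ncard_insert_of_notMem hεE]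
      omega
  have hblock : IsBlock X (insert ε E₀) := by
    refine isBlock_iff_smul_eq_or_disjoint.2 fun x => ?_
    by_cases hd : Disjoint (x • insert ε E₀) (insert ε E₀)
    · exact Or.inr hd
    left
    obtain ⟨_, ⟨a, ha, rfl⟩, hxa⟩ := Set.not_disjoint_iff.1 hd
    obtain ⟨g, rfl⟩ := exists_smul_eq X ε a
    have h1 : insert ε E₀ = insert (g • ε) (g • E₀) := by
      rw [hoff _ ha g rfl, Set.insert_sdiff_singleton, Set.insert_eq_of_mem ha]
    have h2 : insert ε E₀ = insert (x • g • ε) ((x * g) • E₀) := by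
      rw [hoff _ hxa (x * g) (mul_smul _ _ _), Set.insert_sdiff_singleton,
        Set.insert_eq_of_mem hxa]
    conv_lhs => rw [h1, Set.smul_set_insert]
    rw [h2, mul_smul x g E₀]
  rcases IsPreprimitive.isTrivialBlock_of_isBlock hblock with hs | hu
  · exact absurd (hs (Set.mem_insert ε E₀) (Set.mem_insert_of_mem ε (mem_orbit_self y₀)))
      (Ne.symm hy₀)
  · refine Set.Subset.antisymm hEsub fun a ha => ?_
    exact ((hu ▸ Set.mem_univ a : a ∈ insert ε E₀)).resolve_left ha

end Cfsg.Agent.SylowOrbits
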