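import Cfsg.Agent.Lib.SylowOrbits.Chain

/-!
Fixed points of a Sylow `p`-subgroup of a transitive group, `p` odd, and the number of its orbits.
-/

set_option autoImplicit false
set_option linter.unusedSectionVars false
set_option linter.style.haveILetI false

namespace Cfsg.Agent.SylowOrbits

open MulAction Subgroup Equiv
open scoped Pointwise

universe u

variable {p : ℕ} [Fact p.Prime] {N : ℕ}
variable {X Δ : Type u} [Group X] [Finite X] [MulAction X Δ] [Finite Δ]

/-- An element with `p` moved points yields such elements for all `p`-sets. -/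
theorem exists_moving_set (hp2 : p ≠ 2) [IsPreprimitive X Δ] {x : X} (hxe : IsPEl p x)
    (hx : {a : Δ | x • a ≠ a}.ncard = p) (hn : p + 3 ≤ Nat.card Δ) {S : Set Δ}
    (hS : S.ncard = p) : ∃ g : X, IsPEl p g ∧ g • S = S ∧ ∃ a ∈ S, g • a ≠ a := by
  classical
  have hp : p.Prime := Fact.out
  haveI := Fintype.ofFinite Δ
  set T : Set Δ := {a : Δ | x • a ≠ a} with hT
  set φ := toPermHom X Δ
  have hfix : fixedPoints (zpowers x) Δ = Tᶜ := by
    ext a
    rw [mem_fixedPoints_sub, Set.mem_compl_iff, hT, Set.mem_ofPred_eq, not_not]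
    refine ⟨fun h => h _ (mem_zpowers _), fun h y hy => ?_⟩
    exact mem_stabilizer_iff.1 ((zpowers_le.2 (mem_stabilizer_iff.2 h)) hy)
  obtain ⟨g₀, -, hc, hs⟩ := exists_pcycle (α := Δ) hxe.isPGroup (fun h => by
      obtain ⟨a, ha⟩ := Set.nonempty_of_ncard_ne_zero (s := T) (by rw [hx]; exact hp.ne_zero)
      exact ha (mem_fixedPoints_sub.1 (h a) x (mem_zpowers x)))
    (by
      rw [fxs, Set.univ_inter, hfix, Set.ncard_compl, hx]
      omega)
  have hΓ : IsPreprimitive φ.range Δ :=
    IsPreprimitive.of_surjective (φ := φ.rangeRestrict)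
      (f := { toFun := id, map_smul' := fun _ _ => rfl }) Function.surjective_id
  have hn' : p + 3 ≤ Fintype.card Δ := by rwa [← Nat.card_eq_fintype_card]
  have hAle : alternatingGroup Δ ≤ φ.range :=
    Cfsg.Agent.S0713.result φ.range hΓ hp (by have := hp.two_le; omega) hn' hc hs ⟨g₀, rfl⟩
  set Y := (alternatingGroup Δ).comap φ
  have hA : (toPermHom Y Δ).range = alternatingGroup Δ := by
    refine le_antisymm ?_ fun σ hσ => ?_
    · rintro _ ⟨y, rfl⟩
      exact y.2
    · obtain ⟨y, rfl⟩ := hAle hσ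
      exact ⟨⟨y, hσ⟩, rfl⟩
  have horb := orbit_set (K := Y) hA (I := T) (by rw [hx]; omega)
  obtain ⟨y, hy⟩ : S ∈ orbit Y T := by rw [horb]; exact hS.trans hx.symm
  have hy' : (y : X) • T = S := hy
  refine ⟨(y : X) * x * (y : X)⁻¹, hxe.conj _, ?_, ?_⟩
  · have hxT : x • T = T := by
      refine Set.eq_of_subset_of_ncard_le ?_ (by rw [Set.ncard_smul_set]) (Set.toFinite _)
      rintro _ ⟨a, ha, rfl⟩
      show x • x • a ≠ x • a
      exact fun e => ha (smul_left_cancel x e)
    rw [← hy', mul_smul, mul_smul, inv_smul_smul, hxT]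
  · obtain ⟨a, ha⟩ := Set.nonempty_of_ncard_ne_zero (s := T) (by rw [hx]; exact hp.ne_zero)
    refine ⟨(y : X) • a, hy' ▸ Set.smul_mem_smul_set ha, ?_⟩
    rw [mul_smul, mul_smul, inv_smul_smul]
    exact fun e => ha (smul_left_cancel _ e)

/-- A set fixed by a Sylow subgroup has no moving `p`-element. -/
theorem fixes_of_sylow_fix (Q : Sylow p X) {S : Set Δ} (hQ : S ⊆ fixedPoints (Q : Subgroup X) Δ)
    {g : X} (hge : IsPEl p g) (hgS : g • S = S) {a : Δ} (ha : a ∈ S) : g • a = a := by
  have hQH : (Q : Subgroup X) ≤ stabilizer X S := by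
    intro q hq
    rw [mem_stabilizer_iff]
    refine Set.eq_of_subset_of_ncard_le ?_ (by rw [Set.ncard_smul_set]) (Set.toFinite _)
    rintro _ ⟨b, hb, rfl⟩
    show q • b ∈ S
    rwa [mem_fixedPoints_sub.1 (hQ hb) q hq]
  obtain ⟨R, hR⟩ := exists_sylow_mem (K := stabilizer X S) (hge.mk (mem_stabilizer_iff.2 hgS))
  obtain ⟨t, rfl⟩ := MulAction.exists_smul_eq (stabilizer X S) (Q.subtype hQH) R
  rw [Sylow.smul_subtype hQH t] at hR
  have hta : (t : X)⁻¹ • a ∈ S := by
    have h := Set.smul_mem_smul_set (a := (t : X)⁻¹) ha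
    rwa [show (t : X)⁻¹ • S = S from mem_stabilizer_iff.1 (inv_mem t.2)] at h
  have hR' : g ∈ MulAut.conj (t : X) • (Q : Subgroup X) := hR
  rw [Subgroup.pointwise_smul_def] at hR'
  exact mem_fixedPoints_sub.1 ((smul_fixedPoints_conj _ _).2 (hQ hta)) g hR'

theorem exists_pset [IsPretransitive X Δ] (P : Sylow p X)
    (hP : ¬ ∀ a : Δ, a ∈ fixedPoints (P : Subgroup X) Δ) :
    ∃ g : X, IsPEl p g ∧ ∃ S : Set Δ, S.ncard = p ∧ g • S = S ∧ ∃ a ∈ S, g • a ≠ a := by
  classical
  have hp : p.Prime := Fact.out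
  simp only [mem_fixedPoints_sub, not_forall] at hP
  obtain ⟨a₀, x, hx, hne⟩ := hP
  obtain ⟨k, hk⟩ := IsPEl.of_mem_pgroup P.isPGroup' hx
  have hex : ∃ j, ∀ a : Δ, x ^ p ^ j • a = a := ⟨k, fun a => by rw [hk, one_smul]⟩
  have hj0 : Nat.find hex ≠ 0 := by
    intro h
    have := Nat.find_spec hex a₀
    rw [h, pow_zero, pow_one] at this
    exact hne this
  obtain ⟨j, hj⟩ := Nat.exists_eq_succ_of_ne_zero hj0
  obtain ⟨a, ha⟩ := not_forall.1 (Nat.find_min hex (show j < Nat.find hex by omega))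
  set g := x ^ p ^ j
  have hgp : ∀ b : Δ, g ^ p • b = b := fun b => by
    have := Nat.find_spec hex b
    rwa [hj, pow_succ, pow_mul] at this
  have hgpu : ∀ u (b : Δ), (g ^ p) ^ u • b = b := fun u b =>
    mem_stabilizer_iff.1 (pow_mem (mem_stabilizer_iff.2 (hgp b)) u)
  set S : Set Δ := (fun i : ℕ => g ^ i • a) '' Set.Iio p with hS
  refine ⟨g, (IsPEl.of_mem_pgroup P.isPGroup' (pow_mem hx _)), S, ?_, ?_, a,
    ⟨0, hp.pos, by simp⟩, ha⟩
  · rw [hS, Set.InjOn.ncard_image, Set.ncard_eq_toFinset_card' (Set.Iio p)]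
    · simp
    intro i hi l hl hil
    by_contra hne'
    wlog hlt : i < l generalizing i l
    · exact this hl hi hil.symm (Ne.symm hne') (by omega)
    simp only [Set.mem_Iio] at hl
    have hd : g ^ (l - i) • a = a := by
      have h : g ^ i • a = g ^ l • a := hil
      rw [← Nat.add_sub_cancel' hlt.le, pow_add, mul_smul, smul_left_cancel_iff] at h
      exact h.symm
    obtain ⟨u, -, hu⟩ := Nat.exists_mul_mod_eq_one_of_coprime
      ((hp.coprime_iff_not_dvd).2 (Nat.not_dvd_of_pos_of_lt (show 0 < l - i by omega)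
        (show l - i < p by omega))).symm hp.one_lt
    have hd' : g ^ ((l - i) * u) • a = a := by
      rw [pow_mul]
      exact mem_stabilizer_iff.1 (pow_mem (mem_stabilizer_iff.2 hd) u)
    rw [← Nat.div_add_mod ((l - i) * u) p, hu, pow_add, pow_mul, mul_smul, pow_one, hgpu] at hd'
    exact ha hd'
  · refine Set.eq_of_subset_of_ncard_le ?_ (by rw [Set.ncard_smul_set]) (Set.toFinite _)
    rintro _ ⟨_, ⟨i, hi, rfl⟩, rfl⟩
    show g • g ^ i • a ∈ S
    rw [← mul_smul, ← pow_succ']
    rcases eq_or_lt_of_le (Nat.succ_le_of_lt hi) with h | h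
    · exact ⟨0, hp.pos, by
        show g ^ 0 • a = g ^ (i + 1) • a
        rw [show i + 1 = p from h, hgp, pow_zero, one_smul]⟩
    · exact ⟨i + 1, h, rfl⟩

theorem primitive_bound (hp2 : p ≠ 2) (hIH : IH.{u} p N) [IsPreprimitive X Δ]
    (hN : Nat.card Δ ≤ N) (P : Sylow p X)
    (hP : ¬ ∀ a : Δ, a ∈ fixedPoints (P : Subgroup X) Δ) :
    0 ≤ dd p (P : Subgroup X) (Set.univ : Set Δ) ∧
      (dd p (P : Subgroup X) (Set.univ : Set Δ) ≤ cc p * p →
        Nat.card Δ = fxs (P : Subgroup X) (Set.univ : Set Δ) + p) := by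
  have hp : p.Prime := Fact.out
  obtain ⟨m, hm, hmd⟩ := dd_eq_mul P.isPGroup' (A := (Set.univ : Set Δ))
    fun _ _ _ _ => Set.mem_univ _
  rw [Set.ncard_univ] at hm
  set f := fxs (P : Subgroup X) (Set.univ : Set Δ) with hf
  have hm1 : 1 ≤ m := by
    by_contra h
    refine hP fun a => fxs_eq_ncard_iff.1 ?_ (Set.mem_univ a)
    rw [← hf, Set.ncard_univ, hm, show m = 0 by omega, mul_zero, add_zero]
  have hp3 : (3 : ℤ) ≤ p := by have := hp.two_le; omega
  have hc : 0 ≤ cc p ∧ cc p + 2 ≤ p ∧ cc p + 2 < 2 * (p : ℤ) - 1 := by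
    rcases cc_cases hp hp2 with ⟨h, e⟩ | ⟨h, e⟩ <;> rw [e] <;> omega
  by_cases hf0 : f = 0
  · rw [hmd, hf0]
    have hm2 : (1 : ℤ) ≤ m := by exact_mod_cast hm1
    have h1 := mul_le_mul_of_nonneg_left hm2 (show (0 : ℤ) ≤ p - 1 by omega)
    have h2 : (0 : ℤ) ≤ p * (((p : ℤ) - 1) * m - 0) := mul_nonneg (by omega) (by omega)
    refine ⟨by simpa using h2, fun h => ?_⟩
    exfalso
    rw [mul_comm (cc p)] at h
    have h3 := le_of_mul_le_mul_left h (by omega : (0 : ℤ) < p)
    push_cast at h3
    omega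
  obtain ⟨ε, -, hεf⟩ := Set.nonempty_of_ncard_ne_zero hf0
  have hε : (P : Subgroup X) ≤ stabilizer X ε := fun g hg => mem_fixedPoints_sub.1 hεf g hg
  have hlow : -(p : ℤ) ≤ dd p (P : Subgroup X) (Set.univ : Set Δ) := by
    have h := dd_nonneg_of_inv hIH (sk_gen ε) (skSylow P hε) (inv_compl ε)
      (fun a ha => sk_moves P hε hP ha) (card_lt_of_ne hN subset_rfl)
    rw [dd_skSylow, dd_univ_eq P hε] at h
    omega
  have hsmall : dd p (P : Subgroup X) (Set.univ : Set Δ) ≤ cc p * p → m = 1 := by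
    intro hd
    by_contra hm'
    have hm2 : (2 : ℤ) ≤ m := by omega
    have hn : f + 2 * p ≤ Nat.card Δ := by
      rw [hm]; nlinarith [hp.two_le]
    have hfp : p ≤ f := by
      have h1 := mul_le_mul_of_nonneg_left hm2 (show (0 : ℤ) ≤ p - 1 by omega)
      rw [hmd, mul_comm (cc p)] at hd
      have h3 := le_of_mul_le_mul_left hd (by omega : (0 : ℤ) < p)
      omega
    by_cases hmv : ∃ x : X, IsPEl p x ∧ {a : Δ | x • a ≠ a}.ncard = p
    · obtain ⟨x, hxe, hx⟩ := hmv
      obtain ⟨S, hSf, hS⟩ := Set.exists_subset_card_eq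
        (s := (Set.univ : Set Δ) ∩ fixedPoints (P : Subgroup X) Δ) (n := p) hfp
      obtain ⟨g, hge, hgS, a, ha, hne⟩ := exists_moving_set hp2 hxe hx (by omega) hS
      exact hne (fixes_of_sylow_fix P (hSf.trans Set.inter_subset_right) hge hgS ha)
    · push Not at hmv
      obtain ⟨g, hge, S, hS, hgS, a, ha, hne⟩ := exists_pset P hP
      obtain ⟨Q, hQ⟩ := claim_all hp2 hIH (p - 2) (by have := hp.two_le; omega) X Δ hN P hP hn
        (by
          refine hd.trans (le_of_eq ?_)
          have : ((p - 2 : ℕ) : ℤ) = (p : ℤ) - 2 := by have := hp.two_le; omega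
          rw [this]; ring)
        hmv S (by rw [hS]; have := hp.two_le; omega)
      exact hne (fixes_of_sylow_fix Q hQ hge hgS ha)
  refine ⟨?_, fun h => by rw [hm, hsmall h, mul_one]⟩
  by_contra h
  push Not at h
  have hdle : dd p (P : Subgroup X) (Set.univ : Set Δ) ≤ cc p * p :=
    h.le.trans (mul_nonneg hc.1 (by omega))
  have hm' := hsmall hdle
  rw [hm', mul_one] at hm
  rw [hmd, hm'] at h hlow
  push_cast at h hlow
  have hfp : f = p := by
    have h1 : ((p : ℤ) - 1) * 1 - f < 0 := by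
      by_contra hh
      nlinarith [mul_nonneg (show (0 : ℤ) ≤ p by omega) (not_lt.1 hh)]
    have h2 : -1 ≤ ((p : ℤ) - 1) * 1 - f := by
      by_contra hh
      nlinarith
    omega
  -- the degree would be `2p`, but it is prime to `p`
  refine P.not_dvd_index ?_
  refine dvd_trans ?_ (index_dvd_of_le hε)
  rw [index_stabilizer_of_transitive, hm, hfp]
  exact Dvd.intro 2 (by ring)

theorem imprimitive_bound (hIH : IH.{u} p N) [IsPretransitive X Δ] (hN : Nat.card Δ ≤ N)
    (P : Sylow p X) (hP : ¬ ∀ a : Δ, a ∈ fixedPoints (P : Subgroup X) Δ) {a : Δ} {M : Subgroup X}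
    (hM : IsCoatom M) (hlt : stabilizer X a < M) :
    0 ≤ dd p (P : Subgroup X) (Set.univ : Set Δ) := by
  classical
  set b := (stabilizer X a).relIndex M
  set k := M.index
  set f := fxs (P : Subgroup X) (Set.univ : Set Δ)
  have hn : Nat.card Δ = b * k := by
    rw [← index_stabilizer_of_transitive X a, relIndex_mul_index hlt.le]
  have hf : fxs (P : Subgroup X) (Set.univ : Set (X ⧸ stabilizer X a)) = f := by
    rw [← (orbit_quot (P : Subgroup X) a).2, orbit_eq_univ]
  have hk2 : 2 ≤ k := Subgroup.one_lt_index_of_ne_top hM.1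
  have hb2 : 2 ≤ b := by
    have h1 : b ≠ 1 := fun h => not_le_of_gt hlt (relIndex_eq_one.1 h)
    have h0 : b ≠ 0 := Subgroup.FiniteIndex.index_ne_zero (H := (stabilizer X a).subgroupOf M)
    omega
  by_cases hall : ∀ q : X ⧸ M, q ∈ fixedPoints (P : Subgroup X) (X ⧸ M)
  · -- all blocks are fixed
    have hPM : (P : Subgroup X) ≤ M := fun g hg =>
      mem_of_fix_base (mem_fixedPoints_sub.1 (hall _) g hg)
    set B := orbit M a
    set f₀ := fxs (P : Subgroup X) B
    set P' := P.subtype hPM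
    have hP' : ∀ A : Set Δ, fxs (P' : Subgroup M) A = fxs (P : Subgroup X) A := fun A => by
      rw [Sylow.coe_subtype, fxs_subgroupOf _ hPM]
    have hB : B.ncard = b := by
      show (orbit M a).ncard = _
      rw [← index_stabilizer]
      rfl
    have hfib : ∀ g : X, fxs (P : Subgroup X) (g • B) = f₀ := by
      intro g
      have hle : ((g⁻¹ • P : Sylow p X) : Subgroup X) ≤ M := by
        intro q hq
        rw [Sylow.coe_subgroup_smul, Subgroup.mem_pointwise_smul_iff_inv_smul_mem] at hq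
        have h1 := mem_fixedPoints_sub.1 (hall (g : X ⧸ M)) _ hq
        refine mem_of_fix_base ?_
        rw [Quotient.smul_coe, smul_eq_mul, QuotientGroup.eq] at h1
        rw [Quotient.smul_coe, smul_eq_mul, QuotientGroup.eq]
        simpa [mul_assoc] using h1
      have h := fxs_conj ((g⁻¹ • P).subtype hle) P' (A := B)
        fun m x hx => inv_orbit' a m trivial x hx
      rw [hP', Sylow.coe_subtype, fxs_subgroupOf _ hle] at h
      have h2 := fxs_smul (P : Subgroup X) g⁻¹ (g • B)
      rw [inv_smul_smul] at h2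
      rw [← h2]
      refine Eq.trans ?_ h
      rw [Sylow.coe_subgroup_smul, Subgroup.pointwise_smul_def]
      rfl
    -- the fixed points are evenly distributed
    have hfk : f = f₀ * k := by
      choose r hr using fun x : Δ => exists_smul_eq X a x
      let π : Δ → X ⧸ M := fun x => (r x : X ⧸ M)
      have hπ : ∀ (g : X) (x : Δ), π x = (g : X ⧸ M) ↔ x ∈ g • B := by
        intro g x
        rw [Set.mem_smul_set_iff_inv_smul_mem]
        constructor
        · intro h
          rw [eq_comm, QuotientGroup.eq] at h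
          exact ⟨⟨_, h⟩, by show (g⁻¹ * r x) • a = g⁻¹ • x; rw [mul_smul, hr]⟩
        · rintro ⟨m, hm⟩
          rw [eq_comm, QuotientGroup.eq]
          have : (m : X)⁻¹ * (g⁻¹ * r x) ∈ stabilizer X a := by
            rw [mem_stabilizer_iff, mul_smul, mul_smul, hr, ← show (m : X) • a = g⁻¹ • x from hm,
              inv_smul_smul]
          have h2 := mul_mem m.2 (hlt.le this)
          rwa [mul_inv_cancel_left] at h2
      let S := fixedPoints (P : Subgroup X) Δ
      haveI := Fintype.ofFinite Δ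
      haveI := Fintype.ofFinite (X ⧸ M)
      have hsum := Finset.card_eq_sum_card_fiberwise (f := π) (s := S.toFinset)
        (t := (Finset.univ : Finset (X ⧸ M))) fun x _ => Finset.mem_univ _
      rw [Finset.sum_const_nat (m := f₀), ← Set.ncard_eq_toFinset_card', Finset.card_univ,
        ← Nat.card_eq_fintype_card] at hsum
      · show fxs (P : Subgroup X) (Set.univ : Set Δ) = _
        rw [fxs, Set.univ_inter, hsum, mul_comm, ← index_eq_card]
      intro q _
      obtain ⟨g, rfl⟩ := QuotientGroup.mk_surjective q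
      rw [← hfib g, fxs, Set.ncard_eq_toFinset_card']
      congr 1
      ext x
      simp only [Finset.mem_filter, Set.mem_toFinset, Set.mem_inter_iff]
      rw [hπ]
      exact And.comm
    have hdd : dd p (P : Subgroup X) (Set.univ : Set Δ) = (k : ℤ) * dd p (P : Subgroup X) B := by
      rw [dd, dd, Set.ncard_univ, hn, hB, show fxs (P : Subgroup X) (Set.univ : Set Δ) = f₀ * k
        from hfk]
      push_cast
      ring
    rw [hdd]
    refine mul_nonneg (Int.natCast_nonneg _) ?_
    have hBN : Nat.card B < N := by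
      rw [Nat.card_coe_set_eq, hB]
      calc b < b * k := lt_mul_of_one_lt_right (by omega) (by omega)
        _ ≤ N := hn ▸ hN
    have hmovB : ¬ ∀ x : B, x ∈ fixedPoints (P' : Subgroup M) B := by
      intro hfixB
      refine hP fun x => fxs_eq_ncard_iff.1 ?_ (Set.mem_univ x)
      have : f₀ = B.ncard := by
        refine fxs_eq_ncard_iff.2 fun y hy => mem_fixedPoints_sub.2 fun q hq => ?_
        exact congrArg Subtype.val (hfixB ⟨y, hy⟩ ⟨⟨q, hPM hq⟩, hq⟩)
      rw [Set.ncard_univ, hn]
      show f = _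
      rw [hfk, this, hB]
    have h := (hIH M B hBN P' hmovB).1
    rw [dd_orbit_univ] at h
    rw [dd, hP'] at h
    exact h
  · -- some block moves
    have hB := (hIH X (X ⧸ M) (by
      rw [← index_eq_card]
      calc k < b * k := lt_mul_of_one_lt_left (by omega) (by omega)
        _ ≤ N := hn ▸ hN) P hall).1
    rw [dd, Set.ncard_univ, ← index_eq_card] at hB
    rw [dd, Set.ncard_univ, hn]
    have hle := fxs_quot_le hlt.le (P : Subgroup X)
    rw [hf] at hle
    have hlez : (f : ℤ) ≤ (b : ℤ) * fxs (P : Subgroup X) (Set.univ : Set (X ⧸ M)) := by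
      exact_mod_cast hle
    have hp2 : (2 : ℤ) ≤ p := by exact_mod_cast (Fact.out : p.Prime).two_le
    push_cast
    nlinarith [mul_le_mul_of_nonneg_left hlez (show (0 : ℤ) ≤ 2 * p - 1 by omega),
      mul_nonneg (Int.natCast_nonneg b) hB]

theorem ih_all (hp2 : p ≠ 2) : ∀ N, IH.{u} p N := by
  intro N
  induction N with
  | zero => intro H A _ _ _ _ _ h; exact absurd h (Nat.not_lt_zero _)
  | succ N ih =>
    intro H A _ _ _ _ _ hlt P hP
    have hN : Nat.card A ≤ N := by omega
    refine ⟨?_, fun hprim hd => ?_⟩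
    · by_cases hA : Nonempty A
      · obtain ⟨a⟩ := hA
        haveI : Nontrivial A := by
          by_contra h
          rw [not_nontrivial_iff_subsingleton] at h
          exact hP fun x g => Subsingleton.elim _ _
        by_cases hc : IsCoatom (stabilizer H a)
        · haveI : IsPreprimitive H A := (isCoatom_stabilizer_iff_preprimitive H a).1 hc
          exact (primitive_bound hp2 ih hN P hP).1
        · obtain h | ⟨M, hM, hle⟩ := eq_top_or_exists_le_coatom (stabilizer H a)
          · exfalso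
            refine hP fun x g => ?_
            obtain ⟨t, rfl⟩ := exists_smul_eq H a x
            have h1 : ∀ s : H, s • a = a := fun s => mem_stabilizer_iff.1 (h ▸ mem_top s)
            rw [h1 t]
            exact h1 g
          · exact imprimitive_bound ih hN P hP hM
              (lt_of_le_of_ne hle fun e => hc (e ▸ hM))
      · exact absurd (fun a => (hA ⟨a⟩).elim) hP
    · exact (primitive_bound hp2 ih hN P hP).2 hd

end Cfsg.Agent.SylowOrbits
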