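import Cfsg.Agent.Lib.SylowOrbits.Basic

/-!
The inductive hypothesis, orbit decompositions of the defect, and exactness of point stabilisers
in primitive groups.
-/

set_option autoImplicit false
set_option linter.unusedSectionVars false
set_option linter.style.haveILetI false

namespace Cfsg.Agent.SylowOrbits

open MulAction Subgroup
open scoped Pointwise

universe u

/-- The slack `max (p - 4) 0`. -/
def cc (p : ℕ) : ℤ := ((p - 4 : ℕ) : ℤ)

theorem cc_cases {p : ℕ} (hp : p.Prime) (hp2 : p ≠ 2) :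
    (p = 3 ∧ cc p = 0) ∨ (5 ≤ p ∧ cc p = (p : ℤ) - 4) := by
  have h2 := hp.two_le
  have h4 : p ≠ 4 := by rintro rfl; norm_num at hp
  rcases eq_or_ne p 3 with rfl | h3
  · exact Or.inl ⟨rfl, rfl⟩
  · exact Or.inr ⟨by omega, by rw [cc, Nat.cast_sub (by omega)]; rfl⟩

theorem cc_nonneg (p : ℕ) : 0 ≤ cc p := Int.natCast_nonneg _

/-- The statement proved by induction on the degree. -/
def IH (p N : ℕ) : Prop :=
  ∀ (H A : Type u) [Group H] [Finite H] [MulAction H A] [Finite A] [IsPretransitive H A],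
    Nat.card A < N → ∀ P : Sylow p H, (¬ ∀ a : A, a ∈ fixedPoints (P : Subgroup H) A) →
      0 ≤ dd p (P : Subgroup H) (Set.univ : Set A) ∧
        (IsPreprimitive H A → dd p (P : Subgroup H) (Set.univ : Set A) ≤ cc p * p →
          Nat.card A = fxs (P : Subgroup H) (Set.univ : Set A) + p)

variable {p : ℕ} [Fact p.Prime]
variable {K Δ : Type u} [Group K] [Finite K] [MulAction K Δ] [Finite Δ]

theorem exists_sylow_mem {g : K} (h : IsPEl p g) : ∃ Q : Sylow p K, g ∈ (Q : Subgroup K) :=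
  (h.isPGroup.exists_le_sylow).imp fun _ hQ => hQ (mem_zpowers g)

theorem smul_fixedPoints_conj (P : Subgroup K) (h : K) {a : Δ} :
    a ∈ fixedPoints (P.map (MulAut.conj h).toMonoidHom) Δ ↔ h⁻¹ • a ∈ fixedPoints P Δ := by
  rw [mem_fixedPoints_sub, mem_fixedPoints_sub]
  constructor
  · intro H x hx
    have := H _ ⟨x, hx, rfl⟩
    rw [MulEquiv.coe_toMonoidHom, MulAut.conj_apply, mul_smul, mul_smul] at this
    exact eq_inv_smul_iff.2 this
  · rintro H _ ⟨x, hx, rfl⟩
    rw [MulEquiv.coe_toMonoidHom, MulAut.conj_apply, mul_smul, mul_smul, H x hx, smul_inv_smul]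

theorem fixed_of_orbit_fixed (hgen : pe p (⊤ : Subgroup K) = ⊤) (P : Sylow p K) {A : Set Δ}
    (hA : Inv (⊤ : Subgroup K) A) (h : A ⊆ fixedPoints (P : Subgroup K) Δ) (g : K) {a : Δ}
    (ha : a ∈ A) : g • a = a := by
  have key : pe p (⊤ : Subgroup K) ≤ fixingSubgroup K A := by
    refine pe_le_iff.2 fun x _ hx => ?_
    obtain ⟨Q, hQ⟩ := exists_sylow_mem hx
    obtain ⟨t, rfl⟩ := MulAction.exists_smul_eq K P Q
    rw [mem_fixingSubgroup_iff]
    intro b hb
    rw [Sylow.coe_subgroup_smul, Subgroup.pointwise_smul_def] at hQ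
    exact mem_fixedPoints_sub.1 ((smul_fixedPoints_conj _ t).2 (h (hA _ trivial _ hb))) x hQ
  rw [hgen] at key
  exact (mem_fixingSubgroup_iff K).1 (key (mem_top g)) a ha

theorem inv_orbit' (y : Δ) : Inv (⊤ : Subgroup K) (orbit K y) := by
  rintro g - _ ⟨k, rfl⟩
  exact ⟨g * k, mul_smul _ _ _⟩

theorem orbit_subset' {A : Set Δ} (hA : Inv (⊤ : Subgroup K) A) {y : Δ} (hy : y ∈ A) :
    orbit K y ⊆ A := by rintro _ ⟨k, rfl⟩; exact hA k trivial y hy

theorem dd_orbit_univ (P : Subgroup K) (y : Δ) :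
    dd p P (Set.univ : Set (orbit K y)) = dd p P (orbit K y) := by
  have h1 : (Set.univ : Set (orbit K y)).ncard = (orbit K y).ncard := by
    rw [Set.ncard_univ, Nat.card_coe_set_eq]
  have h2 : fxs P (Set.univ : Set (orbit K y)) = fxs P (orbit K y) := by
    rw [fxs, fxs, Set.univ_inter, ← Set.ncard_image_of_injective _ Subtype.val_injective]
    congr 1
    ext a
    constructor
    · rintro ⟨x, hx, rfl⟩
      exact ⟨x.2, fun g => congrArg Subtype.val (hx g)⟩
    · rintro ⟨ha, hf⟩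
      exact ⟨⟨a, ha⟩, fun g => Subtype.ext (hf g), rfl⟩
  rw [dd, dd, h1, h2]

variable {N : ℕ}

theorem dd_orbit_nonneg (hIH : IH.{u} p N) (hgen : pe p (⊤ : Subgroup K) = ⊤) (P : Sylow p K)
    {y : Δ} (hy : ∃ g : K, g • y ≠ y) (hN : (orbit K y).ncard < N) :
    0 ≤ dd p (P : Subgroup K) (orbit K y) := by
  rw [← dd_orbit_univ]
  refine (hIH K (orbit K y) (by rwa [Nat.card_coe_set_eq]) P fun h => ?_).1
  obtain ⟨g, hg⟩ := hy
  refine hg (fixed_of_orbit_fixed hgen P (inv_orbit' y) (fun a ha => ?_) g (mem_orbit_self y))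
  exact fun x => congrArg Subtype.val (h ⟨a, ha⟩ x)

theorem dd_nonneg_of_inv (hIH : IH.{u} p N) (hgen : pe p (⊤ : Subgroup K) = ⊤) (P : Sylow p K)
    {A : Set Δ} (hA : Inv (⊤ : Subgroup K) A) (hmov : ∀ a ∈ A, ∃ g : K, g • a ≠ a)
    (hN : A.ncard < N) : 0 ≤ dd p (P : Subgroup K) A := by
  induction' hn : A.ncard using Nat.strong_induction_on with n ih generalizing A
  rcases A.eq_empty_or_nonempty with rfl | ⟨a, ha⟩
  · simp [dd, fxs]
  have hsub := orbit_subset' hA ha
  rw [dd_sdiff _ hsub]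
  refine add_nonneg (dd_orbit_nonneg hIH hgen P (hmov a ha)
    ((Set.ncard_le_ncard hsub).trans_lt hN)) (ih _ ?_ (hA.sdiff (inv_orbit' a))
      (fun b hb => hmov b hb.1) ((Set.ncard_le_ncard Set.sdiff_subset).trans_lt hN) rfl)
  rw [← hn]
  exact Set.ncard_lt_ncard ⟨Set.sdiff_subset, fun h => (h ha).2 (mem_orbit_self a)⟩

theorem dd_le_of_subset (hIH : IH.{u} p N) (hgen : pe p (⊤ : Subgroup K) = ⊤) (P : Sylow p K)
    {A B : Set Δ} (hA : Inv (⊤ : Subgroup K) A) (hB : Inv (⊤ : Subgroup K) B)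
    (hmov : ∀ a ∈ A, ∃ g : K, g • a ≠ a) (hBA : B ⊆ A) (hN : A.ncard < N) :
    dd p (P : Subgroup K) B ≤ dd p (P : Subgroup K) A := by
  rw [dd_sdiff _ hBA]
  exact le_add_of_nonneg_right (dd_nonneg_of_inv hIH hgen P (hA.sdiff hB)
    (fun b hb => hmov b hb.1) ((Set.ncard_le_ncard Set.sdiff_subset).trans_lt hN))

/-! ### Exactness -/

variable {X : Type u} [Group X] [Finite X] [MulAction X Δ]

/-- In a primitive group, the subgroup generated by the `p`-elements fixing a point fixed by a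
nontrivially acting Sylow subgroup fixes only that point. -/
theorem eq_of_pe_stabilizer_fix [IsPreprimitive X Δ] (P : Sylow p X) {ε : Δ}
    (hε : (P : Subgroup X) ≤ stabilizer X ε)
    (hP : ¬ ∀ a : Δ, a ∈ fixedPoints (P : Subgroup X) Δ) {β : Δ}
    (hβ : ∀ g ∈ pe p (stabilizer X ε), g • β = β) : β = ε := by
  by_contra hne
  haveI : Nontrivial Δ := ⟨⟨β, ε, hne⟩⟩
  set K₀ := pe p (stabilizer X ε)
  have hPK : (P : Subgroup X) ≤ K₀ := le_pe P.isPGroup' hε
  obtain ⟨g, hg⟩ := MulAction.exists_smul_eq X ε β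
  have hle : K₀ ≤ pe p (stabilizer X β) :=
    pe_le_iff.2 fun x hx he => mem_pe (hβ x (mem_pe hx he)) he
  have hmap : pe p (stabilizer X β) = K₀.map (MulAut.conj g).toMonoidHom := by
    apply le_antisymm
    · refine pe_le_iff.2 fun x hx he => ⟨g⁻¹ * x * g, mem_pe ?_ ?_, by
        simp [MulAut.conj_apply, mul_assoc]⟩
      · rw [mem_stabilizer_iff] at hx ⊢
        rw [mul_smul, mul_smul, hg, hx, ← hg, inv_smul_smul]
      · simpa using he.conj g⁻¹
    · rintro _ ⟨x, hx, rfl⟩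
      have hK : K₀ ≤ (pe p (stabilizer X β)).comap (MulAut.conj g).toMonoidHom :=
        pe_le_iff.2 fun y hy he => mem_pe (by
          rw [MulEquiv.coe_toMonoidHom, MulAut.conj_apply, mem_stabilizer_iff, mul_smul, mul_smul,
            ← hg, inv_smul_smul, mem_stabilizer_iff.1 hy]) (he.conj g)
      exact hK hx
  have hnorm : g ∈ normalizer (K₀ : Set X) := by
    have heq : K₀ = K₀.map (MulAut.conj g).toMonoidHom :=
      Subgroup.eq_of_le_of_card_ge (hmap ▸ hle)
        (by rw [Subgroup.card_map_of_injective (MulAut.conj g).injective])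
    rw [Subgroup.mem_normalizer_iff]
    refine fun a => ⟨fun ha => by rw [heq]; exact ⟨a, ha, rfl⟩, fun ha => ?_⟩
    rw [heq] at ha
    obtain ⟨b, hb, hab⟩ := ha
    rw [MulEquiv.coe_toMonoidHom, ← MulAut.conj_apply g a, (MulAut.conj g).injective.eq_iff] at hab
    exact hab ▸ hb
  have hstab : stabilizer X ε ≤ normalizer (K₀ : Set X) := by
    intro x hx
    rw [Subgroup.mem_normalizer_iff]
    intro a
    have hcl : ∀ y ∈ stabilizer X ε, ∀ b ∈ K₀, y * b * y⁻¹ ∈ K₀ := fun y hy b hb =>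
      conj_mem_pe (fun c hc => mul_mem (mul_mem hy hc) (inv_mem hy)) hb
    refine ⟨hcl x hx a, fun ha => ?_⟩
    have := hcl _ (inv_mem hx) _ ha
    simpa [mul_assoc] using this
  have htop : normalizer (K₀ : Set X) = ⊤ := by
    refine ((isCoatom_stabilizer_iff_preprimitive X ε).2 inferInstance).2 _
      (lt_of_le_of_ne hstab fun e => hne ?_)
    have : g • ε = ε := mem_stabilizer_iff.1 (e.symm ▸ hnorm)
    rw [← hg, this]
  haveI hnor : K₀.Normal := Subgroup.normalizer_eq_top_iff.1 htop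
  refine hP fun a x => ?_
  obtain ⟨t, rfl⟩ := MulAction.exists_smul_eq X ε a
  have hx : (x : X) ∈ K₀ := hPK x.2
  have : t⁻¹ * x * t ∈ stabilizer X ε := pe_le _ (by simpa using hnor.conj_mem _ hx t⁻¹)
  rw [mem_stabilizer_iff, mul_smul, mul_smul, inv_smul_eq_iff] at this
  exact this

end Cfsg.Agent.SylowOrbits
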