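import Cfsg.Agent.Lib.SylowOrbits.Orbits

/-!
The subgroup generated by the `p`-elements of a point stabiliser of a primitive group, acting on
the other points.
-/

set_option autoImplicit false
set_option linter.unusedSectionVars false
set_option linter.style.haveILetI false

namespace Cfsg.Agent.SylowOrbits

open MulAction Subgroup
open scoped Pointwise

universe u

variable {p : ℕ} [Fact p.Prime]
variable {X Δ : Type u} [Group X] [Finite X] [MulAction X Δ] [Finite Δ]

/-- The `p`-elements of a point stabiliser generate this group. -/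
abbrev SK (p : ℕ) (ε : Δ) : Subgroup X := pe p (stabilizer X ε)

theorem sk_gen (ε : Δ) : pe p (⊤ : Subgroup (SK (X := X) p ε)) = ⊤ := pe_pe_eq_top _

theorem sylow_le_sk (P : Sylow p X) {ε : Δ} (hε : (P : Subgroup X) ≤ stabilizer X ε) :
    (P : Subgroup X) ≤ SK p ε := le_pe P.isPGroup' hε

theorem sk_smul_self {ε : Δ} (k : SK (X := X) p ε) : k • ε = ε := pe_le _ k.2

/-- The Sylow subgroup of `SK p ε` given by `P`. -/
noncomputable def skSylow (P : Sylow p X) {ε : Δ} (hε : (P : Subgroup X) ≤ stabilizer X ε) :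
    Sylow p (SK (X := X) p ε) := P.subtype (sylow_le_sk P hε)

theorem fixedPoints_subgroupOf (P : Subgroup X) {H : Subgroup X} (h : P ≤ H) :
    fixedPoints (P.subgroupOf H) Δ = fixedPoints P Δ := by
  ext a
  exact ⟨fun ha g => ha ⟨⟨g, h g.2⟩, g.2⟩, fun ha g => ha ⟨(g : H), g.2⟩⟩

theorem fxs_subgroupOf (P : Subgroup X) {H : Subgroup X} (h : P ≤ H) (A : Set Δ) :
    fxs (P.subgroupOf H) A = fxs P A := by
  rw [fxs, fxs, fixedPoints_subgroupOf P h]

theorem fxs_skSylow (P : Sylow p X) {ε : Δ} (hε : (P : Subgroup X) ≤ stabilizer X ε) (A : Set Δ) :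
    fxs ((skSylow P hε : Sylow p (SK (X := X) p ε)) : Subgroup (SK (X := X) p ε)) A =
      fxs (P : Subgroup X) A := by
  rw [skSylow, Sylow.coe_subtype, fxs_subgroupOf _ (sylow_le_sk P hε)]

theorem dd_skSylow (P : Sylow p X) {ε : Δ} (hε : (P : Subgroup X) ≤ stabilizer X ε) (A : Set Δ) :
    dd p ((skSylow P hε : Sylow p (SK (X := X) p ε)) : Subgroup (SK (X := X) p ε)) A =
      dd p (P : Subgroup X) A := by
  rw [dd, dd, fxs_skSylow]

theorem inv_compl (ε : Δ) : Inv (⊤ : Subgroup (SK (X := X) p ε)) ({ε}ᶜ : Set Δ) := by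
  intro g _ a ha h
  refine ha ?_
  rw [Set.mem_singleton_iff] at h ⊢
  exact smul_left_cancel g (h.trans (sk_smul_self g).symm)

theorem sk_moves [IsPreprimitive X Δ] (P : Sylow p X) {ε : Δ}
    (hε : (P : Subgroup X) ≤ stabilizer X ε)
    (hP : ¬ ∀ a : Δ, a ∈ fixedPoints (P : Subgroup X) Δ) {z : Δ} (hz : z ≠ ε) :
    ∃ k : SK (X := X) p ε, k • z ≠ z := by
  by_contra h
  push Not at h
  exact hz (eq_of_pe_stabilizer_fix P hε hP fun g hg => h ⟨g, hg⟩)

theorem dd_univ_eq (P : Sylow p X) {ε : Δ} (hε : (P : Subgroup X) ≤ stabilizer X ε) :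
    dd p (P : Subgroup X) ({ε}ᶜ : Set Δ) = dd p (P : Subgroup X) (Set.univ : Set Δ) + p := by
  have h := dd_sdiff (p := p) (P : Subgroup X) (Set.subset_univ ({ε} : Set Δ))
  rw [dd_of_subset_fixed (A := ({ε} : Set Δ)) (by
    rintro a rfl g; exact hε g.2), Set.ncard_singleton, ← Set.compl_eq_univ_sdiff] at h
  rw [h]
  push_cast
  ring

/-- Translates to fixed points do not change fixed-point counts of invariant sets. -/
theorem fxs_translate (P : Sylow p X) {ε : Δ} (hε : (P : Subgroup X) ≤ stabilizer X ε) {g : X}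
    (hg : g • ε ∈ fixedPoints (P : Subgroup X) Δ) {A : Set Δ}
    (hA : Inv (⊤ : Subgroup (SK (X := X) p ε)) A) :
    fxs (P : Subgroup X) (g • A) = fxs (P : Subgroup X) A := by
  have hQ : ((g⁻¹ • P : Sylow p X) : Subgroup X) ≤ stabilizer X ε := by
    intro q hq
    rw [Sylow.coe_subgroup_smul, Subgroup.mem_pointwise_smul_iff_inv_smul_mem] at hq
    have h1 := mem_fixedPoints_sub.1 hg _ hq
    simp only [map_inv, inv_inv, MulAut.smul_def, MulAut.conj_apply, mul_smul, inv_smul_smul,
      smul_left_cancel_iff] at h1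
    exact h1
  have h := fxs_conj (skSylow (g⁻¹ • P) hQ) (skSylow P hε) (A := A) fun k a ha => hA k trivial a ha
  rw [fxs_skSylow, fxs_skSylow] at h
  have h2 := fxs_smul (P : Subgroup X) g⁻¹ (g • A)
  rw [inv_smul_smul] at h2
  rw [← h, ← h2, Sylow.coe_subgroup_smul, Subgroup.pointwise_smul_def]
  rfl

/-- The number of fixed points in a set, in two counts of a relation. -/
theorem double_count {α : Type*} [Finite α] (F : Set α) (R : α → α → Prop) {d e : ℕ}
    (h1 : ∀ a ∈ F, {b | b ∈ F ∧ R a b}.ncard = d) (h2 : ∀ b ∈ F, {a | a ∈ F ∧ R a b}.ncard = e) :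
    F.ncard * d = F.ncard * e := by
  classical
  haveI := Fintype.ofFinite α
  have key : ∀ (S : α → α → Prop) (c : ℕ), (∀ a ∈ F, {b | b ∈ F ∧ S a b}.ncard = c) →
      ∑ a ∈ F.toFinset, (F.toFinset.filter (S a)).card = F.ncard * c := by
    intro S c hc
    rw [Finset.sum_const_nat (m := c), ← Set.ncard_eq_toFinset_card']
    intro a ha
    rw [← hc a (Set.mem_toFinset.1 ha), Set.ncard_eq_toFinset_card']
    congr 1
    ext b
    simp
  rw [← key R d h1, ← key (fun b a => R a b) e h2]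
  exact Finset.sum_card_bipartiteAbove_eq_sum_card_bipartiteBelow R

end Cfsg.Agent.SylowOrbits
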